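import Mathlib
import Cfsg.Agent.Lib.MatConj.Charpoly

/-! Block endomorphisms of a product, the Schur complement step, nonderogatory similarity. -/

set_option autoImplicit false
open Module Polynomial

namespace H64.Sour
variable {K : Type*} [Field K]

section blk
variable {V W : Type*} [AddCommGroup V] [Module K V] [AddCommGroup W] [Module K W]

/-- block endomorphism -/
def blk (A : End K V) (B : W →ₗ[K] V) (C : V →ₗ[K] W) (D : End K W) : End K (V × W) :=
  (A.coprod B).prod (C.coprod D)

@[simp] theorem blk_apply (A : End K V) (B : W →ₗ[K] V) (C : V →ₗ[K] W) (D : End K W)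
    (v : V × W) : blk A B C D v = (A v.1 + B v.2, C v.1 + D v.2) := rfl

theorem toMatrix_blk {ι κ : Type*} [Fintype ι] [Fintype κ] [DecidableEq ι] [DecidableEq κ]
    (b₁ : Basis ι K V) (b₂ : Basis κ K W)
    (A : End K V) (B : W →ₗ[K] V) (C : V →ₗ[K] W) (D : End K W) :
    LinearMap.toMatrix (b₁.prod b₂) (b₁.prod b₂) (blk A B C D) =
      Matrix.fromBlocks (LinearMap.toMatrix b₁ b₁ A) (LinearMap.toMatrix b₂ b₁ B)
        (LinearMap.toMatrix b₁ b₂ C) (LinearMap.toMatrix b₂ b₂ D) := by
  ext (i | i) (j | j) <;> simp [LinearMap.toMatrix_apply]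

variable [FiniteDimensional K V] [FiniteDimensional K W]

theorem charpoly_blk_upper (A : End K V) (B : W →ₗ[K] V) (D : End K W) :
    (blk A B 0 D).charpoly = A.charpoly * D.charpoly := by
  classical
  let b₁ := Module.finBasis K V
  let b₂ := Module.finBasis K W
  rw [← LinearMap.charpoly_toMatrix _ (b₁.prod b₂), toMatrix_blk, map_zero,
    Matrix.charpoly_fromBlocks_zero₂₁, LinearMap.charpoly_toMatrix, LinearMap.charpoly_toMatrix]

theorem charpoly_blk_lower (A : End K V) (C : V →ₗ[K] W) (D : End K W) :
    (blk A 0 C D).charpoly = A.charpoly * D.charpoly := by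
  classical
  let b₁ := Module.finBasis K V
  let b₂ := Module.finBasis K W
  rw [← LinearMap.charpoly_toMatrix _ (b₁.prod b₂), toMatrix_blk, map_zero,
    Matrix.charpoly_fromBlocks_zero₁₂, LinearMap.charpoly_toMatrix, LinearMap.charpoly_toMatrix]

theorem det_blk_upper (A : End K V) (B : W →ₗ[K] V) (D : End K W) :
    LinearMap.det (blk A B 0 D) = LinearMap.det A * LinearMap.det D := by
  classical
  let b₁ := Module.finBasis K V
  let b₂ := Module.finBasis K W
  rw [← LinearMap.det_toMatrix (b₁.prod b₂), toMatrix_blk, map_zero,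
    Matrix.det_fromBlocks_zero₂₁, LinearMap.det_toMatrix, LinearMap.det_toMatrix]

theorem det_blk_lower (A : End K V) (C : V →ₗ[K] W) (D : End K W) :
    LinearMap.det (blk A 0 C D) = LinearMap.det A * LinearMap.det D := by
  classical
  let b₁ := Module.finBasis K V
  let b₂ := Module.finBasis K W
  rw [← LinearMap.det_toMatrix (b₁.prod b₂), toMatrix_blk, map_zero,
    Matrix.det_fromBlocks_zero₁₂, LinearMap.det_toMatrix, LinearMap.det_toMatrix]

theorem trace_blk (A : End K V) (B : W →ₗ[K] V) (C : V →ₗ[K] W) (D : End K W) :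
    LinearMap.trace K _ (blk A B C D) = LinearMap.trace K _ A + LinearMap.trace K _ D := by
  classical
  let b₁ := Module.finBasis K V
  let b₂ := Module.finBasis K W
  rw [LinearMap.trace_eq_matrix_trace K (b₁.prod b₂), toMatrix_blk,
    LinearMap.trace_eq_matrix_trace K b₁, LinearMap.trace_eq_matrix_trace K b₂]
  simp [Matrix.trace]

end blk

theorem charpoly_smul_one_field (a : K) : (a • (1 : End K K)).charpoly = X - C a := by
  rw [← LinearMap.charpoly_toMatrix _ (Basis.singleton Unit K), Matrix.charpoly, Matrix.det_unique]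
  simp [LinearMap.toMatrix_apply]

theorem det_smul_one_field (a : K) : LinearMap.det (a • (1 : End K K)) = a := by simp

theorem trace_smul_one_field (a : K) : LinearMap.trace K K (a • (1 : End K K)) = a := by simp

section schur
variable {V : Type*} [AddCommGroup V] [Module K V]

/-- splitting along `x` and `φ` -/
def split (x : V) (φ : Dual K V) (hx : φ x = 1) : V ≃ₗ[K] K × LinearMap.ker φ where
  toFun v := (φ v, ⟨v - φ v • x, by simp [hx]⟩)
  invFun p := p.1 • x + p.2
  map_add' a b := by
    ext
    · simp
    · simp only [map_add, Prod.mk_add_mk, Submodule.coe_add]; module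
  map_smul' a b := by
    ext
    · simp
    · simp only [map_smul, smul_eq_mul, RingHom.id_apply, Prod.smul_mk, Submodule.coe_smul]; module
  left_inv v := by simp
  right_inv p := by
    have := p.2.2
    rw [LinearMap.mem_ker] at this
    ext
    · simp [hx, this]
    · simp [hx, this]

theorem split_symm_apply (x : V) (φ : Dual K V) (hx : φ x = 1) (p : K × LinearMap.ker φ) :
    (split x φ hx).symm p = p.1 • x + p.2 := rfl

theorem split_apply (x : V) (φ : Dual K V) (hx : φ x = 1) (v : V) :
    split x φ hx v = (φ v, ⟨v - φ v • x, by simp [hx]⟩) := rfl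

/-- Schur complement -/
def schur (g : End K V) (x : V) (φ : Dual K V) (hd : φ (g x) ≠ 0) : End K (LinearMap.ker φ) :=
  LinearMap.codRestrict _ ((g - (φ (g x))⁻¹ • (φ ∘ₗ g).smulRight (g x)) ∘ₗ (LinearMap.ker φ).subtype)
    (fun w => by simp [mul_assoc, mul_comm, hd])

theorem schur_apply (g : End K V) (x : V) (φ : Dual K V) (hd : φ (g x) ≠ 0) (w : LinearMap.ker φ) :
    (schur g x φ hd w : V) = g w - ((φ (g x))⁻¹ * φ (g w)) • g x := by
  rw [mul_smul]; rfl

/-- the lower-left column -/
def cvec (g : End K V) (x : V) (φ : Dual K V) (hx : φ x = 1) : LinearMap.ker φ :=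
  ⟨g x - φ (g x) • x, by simp [hx]⟩

/-- the upper-right row -/
def rvec (g : End K V) (φ : Dual K V) : Dual K (LinearMap.ker φ) :=
  φ ∘ₗ g ∘ₗ (LinearMap.ker φ).subtype

theorem rvec_apply (g : End K V) (φ : Dual K V) (w : LinearMap.ker φ) : rvec g φ w = φ (g w) := rfl

theorem split_conj (g : End K V) (x : V) (φ : Dual K V) (hx : φ x = 1) (hd : φ (g x) ≠ 0) (v : V) :
    split x φ hx (g v) =
      (blk 1 0 ((φ (g x))⁻¹ • LinearMap.toSpanSingleton K _ (cvec g x φ hx)) 1 *
        blk (φ (g x) • 1) (rvec g φ) 0 (schur g x φ hd)) (split x φ hx v) := by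
  ext
  · simp [split_apply, rvec_apply, mul_comm]
  · simp only [split_apply, End.mul_apply, blk_apply, End.one_apply, LinearMap.zero_apply, add_zero,
      LinearMap.smul_apply, LinearMap.toSpanSingleton_apply, zero_add, Submodule.coe_add,
      Submodule.coe_smul, schur_apply, rvec_apply, cvec, map_sub, map_smul, smul_eq_mul]
    match_scalars <;> field_simp <;> ring

variable [FiniteDimensional K V]

theorem det_schur (g : End K V) (x : V) (φ : Dual K V) (hx : φ x = 1) (hd : φ (g x) ≠ 0) :
    LinearMap.det g = φ (g x) * LinearMap.det (schur g x φ hd) := by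
  have h : H65.Similar g _ := ⟨split x φ hx, split_conj g x φ hx hd⟩
  rw [h.det_eq, map_mul, det_blk_lower, det_blk_upper, det_smul_one_field]
  simp

theorem Similar.trace_eq {W : Type*} [AddCommGroup W] [Module K W] [FiniteDimensional K W]
    {f : End K V} {g : End K W} (h : H65.Similar f g) :
    LinearMap.trace K V f = LinearMap.trace K W g := by
  obtain ⟨e, rfl⟩ := h.eq_conj
  exact (LinearMap.trace_conj' f e).symm

theorem trace_schur (g : End K V) (x : V) (φ : Dual K V) (hx : φ x = 1) (hd : φ (g x) ≠ 0) :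
    LinearMap.trace K V g = φ (g x) + LinearMap.trace K _ (schur g x φ hd) +
      (φ (g x))⁻¹ * rvec g φ (cvec g x φ hx) := by
  have h : H65.Similar g _ := ⟨split x φ hx, split_conj g x φ hx hd⟩
  have h2 : (blk 1 0 ((φ (g x))⁻¹ • LinearMap.toSpanSingleton K _ (cvec g x φ hx)) 1 *
        blk (φ (g x) • 1) (rvec g φ) 0 (schur g x φ hd)) =
      blk (φ (g x) • 1) (rvec g φ) (LinearMap.toSpanSingleton K _ (cvec g x φ hx))
        (schur g x φ hd + (φ (g x))⁻¹ • (rvec g φ).smulRight (cvec g x φ hx)) := by
    refine LinearMap.ext fun v => ?_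
    ext
    · simp
    · simp only [End.mul_apply, blk_apply, End.one_apply, LinearMap.zero_apply, add_zero,
        LinearMap.smul_apply, LinearMap.toSpanSingleton_apply, zero_add, Submodule.coe_add,
        Submodule.coe_smul, LinearMap.add_apply, LinearMap.smulRight_apply, smul_eq_mul]
      match_scalars <;> field_simp
  rw [Similar.trace_eq h, h2, trace_blk, trace_smul_one_field, map_add, map_smul,
    LinearMap.trace_smulRight, add_assoc, smul_eq_mul]

theorem finrank_ker_add_one (x : V) (φ : Dual K V) (hx : φ x = 1) :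
    finrank K (LinearMap.ker φ) + 1 = finrank K V := by
  rw [(split x φ hx).finrank_eq, Module.finrank_prod, finrank_self, add_comm]

end schur

end H64.Sour
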