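import Mathlib
import Cfsg.Agent.Lib.Sour.Blk

/-! Nonderogatory similarity and the decomposition predicate `Dec`. -/

set_option autoImplicit false
open Module Polynomial

namespace H64.Sour
variable {K : Type*} [Field K]
variable {V W : Type*} [AddCommGroup V] [Module K V] [AddCommGroup W] [Module K W]

theorem similar_cyc_of_nd [FiniteDimensional K V] (f : End K V)
    (h : ∀ ρ : K[X], Irreducible ρ → ρ.Monic → ρ ^ 2 ∣ f.charpoly → H65.kerDim f ρ ≤ ρ.natDegree) :
    H65.Similar f (H65.cyc f.charpoly) := by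
  classical
  obtain ⟨t, p, e, hp, hm, he, hs⟩ := H65.exists_model f
  have hc := hs.charpoly_eq_prod fun i => (hm i).pow _
  have hinj : Function.Injective p := by
    intro i j hij
    by_contra hne
    have h1 : p i ^ 2 ∣ f.charpoly := by
      rw [hc, ← Finset.mul_prod_erase _ _ (Finset.mem_univ i),
        ← Finset.mul_prod_erase _ _ (Finset.mem_erase.2 ⟨Ne.symm hne, Finset.mem_univ j⟩),
        ← mul_assoc, pow_two]
      refine Dvd.dvd.mul_right (mul_dvd_mul (dvd_pow_self _ (he i).ne') ?_) _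
      rw [hij]; exact dvd_pow_self _ (he j).ne'
    have h2 := h _ (hp i) (hm i) h1
    have h3 := H65.kerDim_model_irred_pow p e hp hm (hp i) (hm i) 1
    rw [← hs.kerDim_eq, pow_one] at h3
    have h4 : 2 ≤ ∑ k ∈ Finset.univ.filter (fun k => p k = p i), min (e k) 1 := by
      have : ({i, j} : Finset (Fin t)) ⊆ Finset.univ.filter (fun k => p k = p i) := by
        intro k hk
        simp only [Finset.mem_insert, Finset.mem_singleton] at hk
        rcases hk with rfl | rfl <;> simp [hij]
      refine le_trans ?_ (Finset.sum_le_sum_of_subset this)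
      rw [Finset.sum_pair hne]
      have := he i; have := he j; omega
    have h5 : 0 < (p i).natDegree := (hp i).natDegree_pos
    have h6 : H65.kerDim f (p i) =
        (∑ k ∈ Finset.univ.filter (fun k => p k = p i), min (e k) 1) * (p i).natDegree := by
      convert h3
    nlinarith
  have hne : f.charpoly ≠ 0 := f.charpoly_monic.ne_zero
  have := H65.finiteDimensional_adjoinRoot hne
  refine H65.similar_of_kerDim_irred_pow fun ρ k hρ hρm => ?_
  have h3 := H65.kerDim_model_irred_pow p e hp hm hρ hρm k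
  rw [← hs.kerDim_eq] at h3
  rw [h3]
  by_cases hex : ∃ j, p j = ρ
  · obtain ⟨j, rfl⟩ := hex
    have h4 : ∀ inst, (@Finset.filter _ (fun i => p i = p j) inst Finset.univ) = {j} := by
      intro inst
      ext i; simp [hinj.eq_iff]
    rw [h4, Finset.sum_singleton]
    have h5 : f.charpoly = p j ^ e j * ∏ i ∈ Finset.univ.erase j, p i ^ e i := by
      rw [hc, Finset.mul_prod_erase _ (fun i => p i ^ e i) (Finset.mem_univ j)]
    have h6 : ∀ l, IsCoprime (∏ i ∈ Finset.univ.erase j, p i ^ e i) (p j ^ l) := fun l =>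
      IsCoprime.prod_left fun i hi => (H65.isCoprime_of_monic_irreducible_ne (hp i) (hm i) (hp j)
        (hm j) (fun h => (Finset.mem_erase.1 hi).1 (hinj h))).pow
    rcases le_total (e j) k with hk | hk
    · obtain ⟨a, b, hab⟩ := h6 (k - e j)
      rw [H65.kerDim_cyc_of_gcd (d := p j ^ e j) hne (h5 ▸ dvd_mul_right _ _) (pow_dvd_pow _ hk)
        ⟨a, b, ?_⟩, min_eq_left hk, natDegree_pow]
      rw [h5]
      obtain ⟨l, rfl⟩ := Nat.exists_eq_add_of_le hk
      rw [Nat.add_sub_cancel_left] at hab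
      rw [pow_add]
      linear_combination (p j ^ e j) * hab
    · rw [H65.kerDim_cyc_of_dvd hne (h5 ▸ (pow_dvd_pow _ hk).mul_right _), min_eq_right hk,
        natDegree_pow]
  · rw [Finset.filter_false_of_mem (fun i _ hi => hex ⟨i, hi⟩), Finset.sum_empty, zero_mul,
      H65.kerDim_cyc_of_isCoprime hne]
    rw [hc]
    exact IsCoprime.prod_left fun i _ => (H65.isCoprime_of_monic_irreducible_ne (hp i) (hm i) hρ
        hρm (fun h => hex ⟨i, h⟩)).pow

/-- only `X - 1` is a repeated factor -/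
def SQ (h : K[X]) : Prop := ∀ ρ : K[X], Irreducible ρ → ρ.Monic → ρ ^ 2 ∣ h → ρ = X - C 1

theorem SQ.of_squarefree {h : K[X]} (hs : Squarefree h) : SQ h := fun ρ hρ _ hd =>
  (hρ.not_isUnit (hs _ (by rwa [← pow_two]))).elim

theorem SQ.mul {h : K[X]} (hs : SQ h) : SQ ((X - C 1) * h) := by
  intro ρ hρ hm hd
  by_contra hne
  exact hne (hs ρ hρ hm (IsCoprime.dvd_of_dvd_mul_left
    (H65.isCoprime_of_monic_irreducible_ne hρ hm (irreducible_X_sub_C 1) (monic_X_sub_C 1)
      hne).pow_left hd))

theorem SQ.pow_mul {h : K[X]} (hs : SQ h) (n : ℕ) : SQ ((X - C 1) ^ n * h) := by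
  induction n with
  | zero => simpa using hs
  | succ n ih => rw [pow_succ', mul_assoc]; exact ih.mul

/-- fixed vectors are detected by `r` -/
def FixV (B : End K V) (r : Dual K V) : Prop := ∀ v, B v = v → r v = 0 → v = 0

/-- fixed covectors are detected by `c` -/
def FixC (A : End K V) (c : V) : Prop := ∀ ψ : Dual K V, (∀ v, ψ (A v) = ψ v) → ψ c = 0 → ψ = 0

theorem FixV.finrank_le {B : End K V} {r : Dual K V} (h : FixV B r) :
    finrank K (LinearMap.ker (B - 1)) ≤ 1 := by
  have : Function.Injective (r ∘ₗ (LinearMap.ker (B - 1)).subtype) := by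
    rw [injective_iff_map_eq_zero]
    rintro ⟨v, hv⟩ h2
    exact Subtype.ext (h v (by simpa [sub_eq_zero] using hv) h2)
  simpa using LinearMap.finrank_le_finrank_of_injective this

theorem FixC.finrank_le [FiniteDimensional K V] {A : End K V} {c : V} (h : FixC A c) :
    finrank K (LinearMap.ker (A - 1)) ≤ 1 := by
  have h1 : FixV (A.dualMap) (Dual.eval K V c) := fun ψ h1 h2 =>
    h ψ (fun v => by simpa using LinearMap.congr_fun h1 v) h2
  have h2 := h1.finrank_le
  have h3 : A.dualMap - 1 = (A - 1).dualMap := by ext; simp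
  rw [h3] at h2
  have h4 := LinearMap.finrank_range_add_finrank_ker (A - 1).dualMap
  have h5 := LinearMap.finrank_range_add_finrank_ker (A - 1)
  rw [LinearMap.finrank_range_dualMap_eq_finrank_range, Subspace.dual_finrank_eq] at h4
  omega

theorem similar_cyc_of_sq [FiniteDimensional K V] (f : End K V) (hs : SQ f.charpoly)
    (h : finrank K (LinearMap.ker (f - 1)) ≤ 1) : H65.Similar f (H65.cyc f.charpoly) := by
  refine similar_cyc_of_nd f fun ρ hρ hm hd => ?_
  rw [hs ρ hρ hm hd, natDegree_X_sub_C, H65.kerDim, map_sub, aeval_X, C_1, map_one]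
  exact h

theorem similar_of_sq [FiniteDimensional K V] [FiniteDimensional K W] {f : End K V} {g : End K W}
    (hc : f.charpoly = g.charpoly) (hs : SQ f.charpoly)
    (h : finrank K (LinearMap.ker (f - 1)) ≤ 1) (h' : finrank K (LinearMap.ker (g - 1)) ≤ 1) :
    H65.Similar f g := by
  have h1 := similar_cyc_of_sq f hs h
  have h2 := similar_cyc_of_sq g (hc ▸ hs) h'
  rw [← hc] at h2
  exact h1.trans h2.symm

/-- `g = A⁻¹ B` with prescribed characteristic polynomials -/
def Dec [FiniteDimensional K V] (g : End K V) (c : V) (r : Dual K V) (hA hB : K[X]) : Prop :=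
  ∃ A B : End K V, IsUnit A ∧ A * g = B ∧ A.charpoly = hA ∧ B.charpoly = hB ∧ FixC A c ∧ FixV B r

variable [FiniteDimensional K V] [FiniteDimensional K W]

theorem Dec.of_equiv {g : End K V} {g' : End K W} (e : V ≃ₗ[K] W) (he : ∀ v, e (g v) = g' (e v))
    {c : V} {r : Dual K V} {hA hB : K[X]} (h : Dec g' (e c) (r ∘ₗ e.symm.toLinearMap) hA hB) :
    Dec g c r hA hB := by
  obtain ⟨A, B, hu, hg, h1, h2, h3, h4⟩ := h
  refine ⟨e.symm.conj A, e.symm.conj B, (H65.similar_conj A e.symm).isUnit_iff.1 hu, ?_,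
    by rw [← h1, ← (H65.similar_conj A e.symm).charpoly_eq],
    by rw [← h2, ← (H65.similar_conj B e.symm).charpoly_eq], fun ψ h5 h6 => ?_, fun v h5 h6 => ?_⟩
  · ext v
    simp [LinearEquiv.conj_apply, he, ← hg]
  · have := h3 (ψ ∘ₗ e.symm.toLinearMap) (fun v => by
      simpa [LinearEquiv.conj_apply] using h5 (e.symm v)) (by simpa using h6)
    ext v
    simpa using LinearMap.congr_fun this (e v)
  · have := h4 (e v) (by
      have := congrArg e h5
      simpa [LinearEquiv.conj_apply] using this) (by simpa using h6)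
    simpa using this

theorem Dec.step {g : End K V} {x : V} {φ : Dual K V} (hx : φ x = 1) (hd : φ (g x) ≠ 0)
    {α β : K} (hα : α ≠ 0) (hβ : α * φ (g x) = β) {c₁ : LinearMap.ker φ}
    {r₁ : Dual K (LinearMap.ker φ)} {hA hB : K[X]} (h : Dec (schur g x φ hd) c₁ r₁ hA hB)
    {c : V} {r : Dual K V}
    (hc : (α = 1 ∧ φ c ≠ 0 ∧ c₁ = cvec g x φ hx) ∨ (α ≠ 1 ∧ c₁ = 0))
    (hr : (β = 1 ∧ r x ≠ 0 ∧ r₁ = rvec g φ) ∨ (β ≠ 1 ∧ r₁ = 0)) :
    Dec g c r ((X - C α) * hA) ((X - C β) * hB) := by
  obtain ⟨A, B, hu, hg, h1, h2, h3, h4⟩ := h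
  refine Dec.of_equiv (split x φ hx) (split_conj g x φ hx hd) ?_
  refine ⟨blk (α • 1) 0 (-(φ (g x))⁻¹ • LinearMap.toSpanSingleton K _ (A (cvec g x φ hx))) A,
    blk (β • 1) (α • rvec g φ) 0 B, ?_, ?_, ?_, ?_, fun ψ h5 h6 => ?_, fun v h5 h6 => ?_⟩
  · rw [LinearMap.isUnit_iff_isUnit_det, det_blk_lower, det_smul_one_field]
    exact (isUnit_iff_ne_zero.2 hα).mul ((LinearMap.isUnit_iff_isUnit_det _).1 hu)
  · refine LinearMap.ext fun v => ?_
    refine Prod.ext ?_ ?_
    · simp [← hβ]; ring
    · simp only [End.mul_apply, blk_apply, LinearMap.smul_apply, End.one_apply,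
        LinearMap.zero_apply, add_zero, zero_add, LinearMap.toSpanSingleton_apply, map_add,
        map_smul, ← hg]
      module
  · rw [charpoly_blk_lower, charpoly_smul_one_field, h1]
  · rw [charpoly_blk_upper, charpoly_smul_one_field, h2]
  · have h7 : ∀ w, (ψ ∘ₗ LinearMap.inr K K _) (A w) = (ψ ∘ₗ LinearMap.inr K K _) w := fun w => by
      simpa using h5 (0, w)
    have h8 : ∀ (t : K) (w : LinearMap.ker φ), ψ (t, w) = t * ψ (1, 0) + ψ (0, w) := fun t w => by
      rw [← smul_eq_mul, ← map_smul, ← map_add]; simp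
    have h9 := h5 (1, 0)
    simp only [blk_apply, LinearMap.smul_apply, End.one_apply, smul_eq_mul, mul_one,
      map_zero, add_zero, LinearMap.toSpanSingleton_apply, one_smul] at h9
    rw [h8] at h9
    have h10 : ψ (0, -(φ (g x))⁻¹ • A (cvec g x φ hx)) = -(φ (g x))⁻¹ * ψ (0, cvec g x φ hx) := by
      have := h7 (cvec g x φ hx)
      simp only [LinearMap.comp_apply, LinearMap.inr_apply] at this
      rw [← this, ← smul_eq_mul, ← map_smul ψ, Prod.smul_mk, smul_zero]
    rw [h10] at h9
    have h11 : ψ ∘ₗ LinearMap.inr K K _ = 0 := by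
      refine h3 _ h7 ?_
      rcases hc with ⟨rfl, -, rfl⟩ | ⟨-, rfl⟩
      · simpa [hd] using h9
      · exact map_zero _
    have h12 : ∀ w, ψ (0, w) = 0 := fun w => by simpa using LinearMap.congr_fun h11 w
    have h13 : ψ (1, 0) = 0 := by
      rcases hc with ⟨rfl, h14, rfl⟩ | ⟨h14, rfl⟩
      · rw [split_apply, h8, h12, add_zero] at h6
        exact (mul_eq_zero.1 h6).resolve_left h14
      · rw [h12, mul_zero, add_zero] at h9
        by_contra h15
        exact h14 (mul_right_cancel₀ h15 (by rw [h9, one_mul]))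
    refine LinearMap.ext fun v => ?_
    rw [show v = (v.1, v.2) from rfl, h8, h12, h13]; simp
  · obtain ⟨t, w⟩ := v
    simp only [blk_apply, LinearMap.smul_apply, End.one_apply, smul_eq_mul, LinearMap.zero_apply,
      zero_add, Prod.mk.injEq] at h5
    have h7 : w = 0 := by
      refine h4 w h5.2 ?_
      rcases hr with ⟨rfl, -, rfl⟩ | ⟨-, rfl⟩
      · simpa [hα] using h5.1
      · simp
    subst h7
    have h8 : t = 0 := by
      rcases hr with ⟨rfl, h14, rfl⟩ | ⟨h14, rfl⟩
      · simpa [split_symm_apply, h14] using h6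
      · by_contra h15
        exact h14 (mul_right_cancel₀ h15 (by simpa using h5.1))
    simp [h8]

end H64.Sour
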