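import Mathlib
import Cfsg.Agent.Lib.Sour.Dec

/-! A strengthened Sourour induction (after Lev) over fields with at least four elements. -/

set_option autoImplicit false
open Module Polynomial

namespace H64.Sour
universe u
variable {K : Type*} [Field K]
variable {V : Type*} [AddCommGroup V] [Module K V]

/-- at least four elements -/
def Big (K : Type*) : Prop := ∀ a b c : K, ∃ t, t ≠ a ∧ t ≠ b ∧ t ≠ c

theorem one_bad (p : Submodule K V) {w : V} (hw : w ∉ p) (w' : V) :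
    ∃ t₀ : K, ∀ t, t ≠ t₀ → w + t • w' ∉ p := by
  by_cases h : ∃ t : K, w + t • w' ∈ p
  · obtain ⟨t₀, h0⟩ := h
    refine ⟨t₀, fun t ht h1 => hw ?_⟩
    have h2 : (t - t₀) • w' ∈ p := by
      have := p.sub_mem h1 h0
      rwa [add_sub_add_left_eq_sub, ← sub_smul] at this
    rw [p.smul_mem_iff (sub_ne_zero.2 ht)] at h2
    simpa using p.sub_mem h0 (p.smul_mem t₀ h2)
  · exact ⟨0, fun t _ h1 => h ⟨t, h1⟩⟩

theorem exists_notMem {p : Submodule K V} (hp : p ≠ ⊤) : ∃ w, w ∉ p := by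
  by_contra! h
  exact hp (Submodule.eq_top_iff'.2 h)

theorem avoid2 {p q : Submodule K V} (hp : p ≠ ⊤) (hq : q ≠ ⊤) : ∃ w, w ∉ p ∧ w ∉ q := by
  obtain ⟨w, hw⟩ := exists_notMem hp
  obtain ⟨w', hw'⟩ := exists_notMem hq
  by_cases h1 : w ∈ q
  · by_cases h2 : w' ∈ p
    · exact ⟨w + w', fun h => hw (by simpa using p.sub_mem h h2),
        fun h => hw' (by simpa using q.sub_mem h h1)⟩
    · exact ⟨w', h2, hw'⟩
  · exact ⟨w, hw, h1⟩

theorem add_smul_notMem {q : Submodule K V} {w w' : V} (h1 : w ∈ q) (h2 : w' ∉ q) {t : K}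
    (ht : t ≠ 0) : w + t • w' ∉ q := fun h =>
  h2 ((q.smul_mem_iff ht).1 (by simpa using q.sub_mem h h1))

theorem add_smul_notMem' {q : Submodule K V} {w w' : V} (h1 : w ∉ q) (h2 : w' ∈ q) (t : K) :
    w + t • w' ∉ q := fun h => h1 (by simpa using q.sub_mem h (q.smul_mem t h2))

theorem avoid3 (hK : Big K) {p₁ p₂ q : Submodule K V} (h₁ : p₁ ≠ ⊤) (h₂ : p₂ ≠ ⊤) (hq : q ≠ ⊤) :
    ∃ w, w ∉ p₁ ∧ w ∉ p₂ ∧ w ∉ q := by
  obtain ⟨w, hw₁, hw₂⟩ := avoid2 h₁ h₂
  obtain ⟨w', hw'⟩ := exists_notMem hq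
  by_cases h : w ∈ q
  · obtain ⟨t₁, ht₁⟩ := one_bad p₁ hw₁ w'
    obtain ⟨t₂, ht₂⟩ := one_bad p₂ hw₂ w'
    obtain ⟨t, h0, h1, h2⟩ := hK 0 t₁ t₂
    exact ⟨_, ht₁ t h1, ht₂ t h2, add_smul_notMem h hw' h0⟩
  · exact ⟨w, hw₁, hw₂, h⟩

theorem avoid4 (hK : Big K) {p₁ p₂ p₃ q : Submodule K V} (h₁ : p₁ ≠ ⊤) (h₂ : p₂ ≠ ⊤)
    (h₃ : p₃ ≠ ⊤) (hq : q ≠ ⊤) : ∃ w, w ∉ p₁ ∧ w ∉ p₂ ∧ w ∉ p₃ ∧ w ∉ q := by
  obtain ⟨w, hw₁, hw₂, hw₃⟩ := avoid3 hK h₁ h₂ h₃
  obtain ⟨w', hw'⟩ := exists_notMem hq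
  by_cases h : w ∈ q
  · obtain ⟨t₁, ht₁⟩ := one_bad p₁ hw₁ w'
    obtain ⟨t₂, ht₂⟩ := one_bad p₂ hw₂ w'
    obtain ⟨t₃, ht₃⟩ := one_bad p₃ hw₃ w'
    by_cases k₁ : w' ∈ p₁
    · obtain ⟨t, h0, h1, h2⟩ := hK 0 t₂ t₃
      exact ⟨_, add_smul_notMem' hw₁ k₁ t, ht₂ t h1, ht₃ t h2, add_smul_notMem h hw' h0⟩
    by_cases k₂ : w' ∈ p₂
    · obtain ⟨t, h0, h1, h2⟩ := hK 0 t₁ t₃
      exact ⟨_, ht₁ t h1, add_smul_notMem' hw₂ k₂ t, ht₃ t h2, add_smul_notMem h hw' h0⟩
    by_cases k₃ : w' ∈ p₃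
    · obtain ⟨t, h0, h1, h2⟩ := hK 0 t₁ t₂
      exact ⟨_, ht₁ t h1, ht₂ t h2, add_smul_notMem' hw₃ k₃ t, add_smul_notMem h hw' h0⟩
    exact ⟨w', k₁, k₂, k₃, hw'⟩
  · exact ⟨w, hw₁, hw₂, hw₃, h⟩

theorem ker_eval_ne_top {v : V} (hv : v ≠ 0) : LinearMap.ker (Dual.eval K V v) ≠ ⊤ := by
  intro h
  refine hv ((Module.forall_dual_apply_eq_zero_iff K v).1 fun φ => ?_)
  have : φ ∈ LinearMap.ker (Dual.eval K V v) := h ▸ Submodule.mem_top
  simpa using this

theorem exists_phi (hK : Big K) {x y w₁ w₂ w₃ : V} (hx : x ∉ K ∙ y) (h₁ : w₁ ∉ K ∙ y)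
    (h₂ : w₂ ∉ K ∙ y) (h₃ : w₃ ∉ K ∙ y) :
    ∃ φ : Dual K V, φ x = 1 ∧ φ y = 0 ∧ φ w₁ ≠ 0 ∧ φ w₂ ≠ 0 ∧ φ w₃ ≠ 0 := by
  have key : ∀ w, w ∉ K ∙ y → (K ∙ y).mkQ w ≠ 0 := fun w hw h =>
    hw (by simpa [Submodule.Quotient.mk_eq_zero] using h)
  obtain ⟨ψ, k₀, k₁, k₂, k₃⟩ := avoid4 hK (ker_eval_ne_top (K := K) (key _ hx))
    (ker_eval_ne_top (K := K) (key _ h₁)) (ker_eval_ne_top (K := K) (key _ h₂))
    (ker_eval_ne_top (K := K) (key _ h₃))
  simp only [LinearMap.mem_ker, Dual.eval_apply] at k₀ k₁ k₂ k₃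
  refine ⟨(ψ ((K ∙ y).mkQ x))⁻¹ • (ψ ∘ₗ (K ∙ y).mkQ), ?_, ?_, ?_, ?_, ?_⟩
  · simp only [LinearMap.smul_apply, LinearMap.comp_apply, smul_eq_mul]
    exact inv_mul_cancel₀ k₀
  · have : (K ∙ y).mkQ y = 0 := by simp
    simp only [LinearMap.smul_apply, LinearMap.comp_apply, this, map_zero, smul_zero]
  all_goals
    simp only [LinearMap.smul_apply, LinearMap.comp_apply, smul_eq_mul]
    exact mul_ne_zero (inv_ne_zero k₀) ‹_›

/-- non-scalar -/
def NS (g : End K V) : Prop := ∀ μ : K, ∃ v, g v ≠ μ • v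

/-- `g - 1` has rank at least two -/
def R2 (g : End K V) : Prop := ∀ v, ∃ y, g y - y ∉ K ∙ v

theorem R2.comap_ne_top {g : End K V} (h : R2 g) (v : V) : (K ∙ v).comap (g - 1) ≠ ⊤ := by
  obtain ⟨y, hy⟩ := h v
  intro h2
  have : y ∈ (K ∙ v).comap (g - 1) := h2 ▸ Submodule.mem_top
  exact hy (by simpa using this)

variable [FiniteDimensional K V]

theorem NS.exists_two {g : End K V} (h : NS g) : ∃ p q : Submodule K V, p ≠ ⊤ ∧ q ≠ ⊤ ∧
    ∀ x, x ∉ p → x ∉ q → ∀ μ : K, g x ≠ μ • x := by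
  by_cases h1 : ∃ (μ : K) (v : V), v ≠ 0 ∧ g v = μ • v
  · obtain ⟨μ, v, hv, h2⟩ := h1
    refine ⟨LinearMap.ker (g - μ • 1), LinearMap.range (g - μ • 1), fun h3 => ?_, fun h3 => ?_,
      fun x h3 h4 ν h5 => ?_⟩
    · obtain ⟨w, hw⟩ := h μ
      have : w ∈ LinearMap.ker (g - μ • 1) := h3 ▸ Submodule.mem_top
      exact hw (by simpa [sub_eq_zero] using this)
    · have := LinearMap.injective_iff_surjective.2 (LinearMap.range_eq_top.1 h3)
      exact hv (this (by simp [h2]))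
    · by_cases h6 : ν = μ
      · exact h3 (by simp [h5, h6])
      · refine h4 ⟨(ν - μ)⁻¹ • x, ?_⟩
        simp only [map_smul, LinearMap.sub_apply, h5, LinearMap.smul_apply, End.one_apply,
          ← sub_smul, smul_smul]
        rw [inv_mul_cancel₀ (sub_ne_zero.2 h6), one_smul]
  · push Not at h1
    have h2 : (⊥ : Submodule K V) ≠ ⊤ := by
      obtain ⟨w, hw⟩ := h 0
      intro h3
      have : w ∈ (⊥ : Submodule K V) := h3 ▸ Submodule.mem_top
      rw [Submodule.mem_bot] at this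
      simp [this] at hw
    exact ⟨⊥, ⊥, h2, h2, fun x h3 _ μ => h1 μ x (by simpa using h3)⟩

theorem exists_not_comb2 (h : 3 ≤ finrank K V) (x y : V) : ∃ z, ∀ a b : K, z ≠ a • x + b • y := by
  by_contra! h2
  have h3 : Submodule.span K (Set.range ![x, y]) = ⊤ := by
    refine Submodule.eq_top_iff'.2 fun z => ?_
    obtain ⟨a, b, rfl⟩ := h2 z
    exact Submodule.add_mem _ (Submodule.smul_mem _ _ (Submodule.subset_span ⟨0, rfl⟩))
      (Submodule.smul_mem _ _ (Submodule.subset_span ⟨1, rfl⟩))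
  have h4 := finrank_range_le_card (R := K) ![x, y]
  rw [Set.finrank, h3, finrank_top, Fintype.card_fin] at h4
  omega

theorem exists_not_comb3 (h : 4 ≤ finrank K V) (x y w : V) :
    ∃ z, ∀ a b c : K, z ≠ a • x + b • y + c • w := by
  by_contra! h2
  have h3 : Submodule.span K (Set.range ![x, y, w]) = ⊤ := by
    refine Submodule.eq_top_iff'.2 fun z => ?_
    obtain ⟨a, b, c, rfl⟩ := h2 z
    exact Submodule.add_mem _ (Submodule.add_mem _
      (Submodule.smul_mem _ _ (Submodule.subset_span ⟨0, rfl⟩))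
      (Submodule.smul_mem _ _ (Submodule.subset_span ⟨1, rfl⟩)))
      (Submodule.smul_mem _ _ (Submodule.subset_span ⟨2, rfl⟩))
  have h4 := finrank_range_le_card (R := K) ![x, y, w]
  rw [Set.finrank, h3, finrank_top, Fintype.card_fin] at h4
  omega

omit [FiniteDimensional K V] in
theorem indep_of_noneig {g : End K V} {x : V} (h : ∀ μ : K, g x ≠ μ • x) {a b : K}
    (hab : a • x + b • g x = 0) : a = 0 ∧ b = 0 := by
  have hx : x ≠ 0 := fun h0 => h 0 (by simp [h0])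
  have hb : b = 0 := by
    by_contra hb
    refine h (-(b⁻¹ * a)) ?_
    have : g x = b⁻¹ • (b • g x) := by rw [smul_smul, inv_mul_cancel₀ hb, one_smul]
    rw [this, eq_neg_of_add_eq_zero_right hab]
    module
  subst hb
  exact ⟨by simpa [hx] using hab, rfl⟩

omit [FiniteDimensional K V] in
theorem bad_of_not_NS {g : End K V} {x : V} {φ : Dual K V} (hx : φ x = 1) (hd : φ (g x) = 1)
    (h : ¬ NS (schur g x φ (by simp [hd]))) :
    ∃ μ : K, ∀ v, g v - μ • v = φ (g v) • g x - (μ * φ v) • x := by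
  simp only [NS, not_forall, not_exists, not_not] at h
  obtain ⟨μ, h⟩ := h
  refine ⟨μ, fun v => ?_⟩
  have := congrArg Subtype.val (h ⟨v - φ v • x, by simp [hx]⟩)
  simp only [schur_apply, hd, map_sub, map_smul, Submodule.coe_smul, smul_eq_mul] at this
  linear_combination (norm := module) this

omit [FiniteDimensional K V] in
theorem bad_of_not_R2 {g : End K V} {x : V} {φ : Dual K V} (hx : φ x = 1) (hd : φ (g x) = 1)
    (h : ¬ R2 (schur g x φ (by simp [hd]))) :
    ∃ v : V, ∀ u, ∃ a : K, g u - u = a • v + φ (g u) • g x - φ u • x := by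
  simp only [R2, not_forall, not_exists, not_not] at h
  obtain ⟨v, h⟩ := h
  refine ⟨v, fun u => ?_⟩
  obtain ⟨a, ha⟩ := Submodule.mem_span_singleton.1 (h ⟨u - φ u • x, by simp [hx]⟩)
  refine ⟨a, ?_⟩
  have := congrArg Subtype.val ha
  simp only [schur_apply, hd, map_sub, map_smul, Submodule.coe_smul, smul_eq_mul,
    Submodule.coe_sub] at this
  linear_combination (norm := module) -this

omit [FiniteDimensional K V] in
theorem exists_kill_bad {g : End K V} (hg : Function.Injective g) {x z : V}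
    (hne : ∀ μ : K, g x ≠ μ • x) (hz : ∀ a b : K, z ≠ a • x + b • g x) :
    ∃ w, w ∉ (K ∙ (g x - x)) ∧ ∀ φ : Dual K V, φ x = 1 → φ w ≠ 0 →
      ¬ ∃ μ : K, ∀ v, g v - μ • v = φ (g v) • g x - (μ * φ v) • x := by
  have key : ∀ a : K, z - a • x ∉ K ∙ (g x - x) := fun a h => by
    obtain ⟨b, hb⟩ := Submodule.mem_span_singleton.1 h
    exact hz (a - b) b (by linear_combination (norm := module) -hb)
  by_cases h : ∃ φ : Dual K V, ∃ μ : K, ∀ v, g v - μ • v = φ (g v) • g x - (μ * φ v) • x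
  · obtain ⟨φ₀, μ₀, h₀⟩ := h
    refine ⟨z - φ₀ z • x, key _, fun φ hx hw ⟨μ, h₁⟩ => hw ?_⟩
    have h2 : μ = μ₀ := by
      by_contra h3
      have h4 : (μ - μ₀) ≠ 0 := sub_ne_zero.2 h3
      refine hz ((μ - μ₀)⁻¹ * (μ * φ z - μ₀ * φ₀ z)) ((μ - μ₀)⁻¹ * (φ₀ (g z) - φ (g z))) ?_
      have : z = (μ - μ₀)⁻¹ • ((μ - μ₀) • z) := by rw [smul_smul, inv_mul_cancel₀ h4, one_smul]
      rw [this]
      have h5 : (μ - μ₀) • z = (μ * φ z - μ₀ * φ₀ z) • x + (φ₀ (g z) - φ (g z)) • g x := by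
        linear_combination (norm := module) h₀ z - h₁ z
      rw [← this]
      nth_rewrite 1 [this]
      rw [h5]
      module
    subst h2
    have h3 : μ ≠ 0 := by
      rintro rfl
      refine hz (φ (g z)) 0 (hg ?_)
      simpa using h₁ z
    have h4 := (indep_of_noneig hne (a := μ * φ z - μ * φ₀ z) (b := φ₀ (g z) - φ (g z))
      (by linear_combination (norm := module) h₁ z - h₀ z)).1
    have h5 : φ z = φ₀ z := mul_left_cancel₀ h3 (sub_eq_zero.1 h4)
    simp [hx, h5]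
  · exact ⟨z - (0 : K) • x, key _, fun φ _ _ h2 => h ⟨φ, h2⟩⟩

theorem det_three {g : End K V} (h3 : finrank K V = 3) (hdet : LinearMap.det g = 1)
    (hs : Function.Surjective (g - 1 : End K V)) {x u : V} (hne : ∀ μ : K, g x ≠ μ • x)
    (hu : g u - u = x) : u + x ∉ K ∙ (g x - x) := by
  classical
  intro h
  obtain ⟨b, hb⟩ := Submodule.mem_span_singleton.1 h
  obtain ⟨z, hz⟩ := exists_not_comb2 h3.ge x (g x)
  have hb0 : b ≠ 0 := by
    rintro rfl
    have h1 : u = -x := by linear_combination (norm := module) -hb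
    rw [h1, map_neg] at hu
    exact hne 0 (by linear_combination (norm := module) -hu)
  have hu' : u = (-b - 1) • x + b • g x := by linear_combination (norm := module) -hb
  have hli : LinearIndependent K ![u, x, z] := by
    rw [Fintype.linearIndependent_iff]
    intro c hc
    simp only [Fin.sum_univ_three, Matrix.cons_val_zero, Matrix.cons_val_one,
      Matrix.cons_val] at hc
    have h2 : c 2 = 0 := by
      by_contra h2
      refine hz (-(c 2)⁻¹ * (c 0 * (-b - 1) + c 1)) (-(c 2)⁻¹ * (c 0 * b)) ?_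
      have : z = (c 2)⁻¹ • (c 2 • z) := by rw [smul_smul, inv_mul_cancel₀ h2, one_smul]
      rw [this, eq_neg_of_add_eq_zero_right hc, hu']
      module
    rw [h2, zero_smul, add_zero, hu'] at hc
    obtain ⟨h4, h5⟩ := indep_of_noneig hne (a := c 0 * (-b - 1) + c 1) (b := c 0 * b)
      (by linear_combination (norm := module) hc)
    have h6 : c 0 = 0 := (mul_eq_zero.1 h5).resolve_right hb0
    intro i
    fin_cases i
    · exact h6
    · simpa [h6] using h4
    · exact h2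
  let B := basisOfLinearIndependentOfCardEqFinrank hli (by simp [h3])
  have e0 : B 0 = u := by simp [B]
  have e1 : B 1 = x := by simp [B]
  have e2 : B 2 = z := by simp [B]
  have g0 : g (B 0) = B 0 + B 1 := by rw [e0, e1]; linear_combination (norm := module) hu
  have g1 : g (B 1) = b⁻¹ • B 0 + (1 + b⁻¹) • B 1 := by
    rw [e0, e1]
    have : g x = b⁻¹ • (b • g x) := by rw [smul_smul, inv_mul_cancel₀ hb0, one_smul]
    rw [this, show b • g x = u + x + b • x by linear_combination (norm := module) hb]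
    match_scalars <;> field_simp
    ring
  have h4 : B.repr (g (B 2)) 2 = 1 := by
    rw [← hdet, ← LinearMap.det_toMatrix B, Matrix.det_fin_three]
    simp only [LinearMap.toMatrix_apply, g0, g1, map_add, map_smul, Basis.repr_self]
    simp
    ring
  have h5 : B.coord 2 ∘ₗ (g - 1 : End K V) = 0 := by
    refine B.ext fun i => ?_
    fin_cases i
    · simp [g0]
    · simp [g1]
    · simp [h4]
  obtain ⟨y, hy⟩ := hs (B 2)
  have := LinearMap.congr_fun h5 y
  rw [LinearMap.comp_apply, hy] at this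
  simp at this

theorem exists_step (hK : Big K) {g : End K V} (hdet : LinearMap.det g = 1) (hns : NS g)
    (hr2 : R2 g) {c : V} (hc : c ≠ 0) {r : Dual K V} (hr : r ≠ 0) :
    ∃ (x : V) (φ : Dual K V) (hx : φ x = 1) (hd : φ (g x) = 1), r x ≠ 0 ∧ φ c ≠ 0 ∧
      cvec g x φ hx ≠ 0 ∧ rvec g φ ≠ 0 ∧ (3 ≤ finrank K V →
        NS (schur g x φ (by simp [hd])) ∧ R2 (schur g x φ (by simp [hd]))) := by
  have hg : Function.Injective g :=
    ((End.isUnit_iff g).1 ((LinearMap.isUnit_iff_isUnit_det g).2 (by simp [hdet]))).1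
  have hkr : LinearMap.ker r ≠ ⊤ := fun h => hr (LinearMap.ker_eq_top.1 h)
  -- common facts
  have hxy : ∀ x, (∀ μ : K, g x ≠ μ • x) → x ∉ K ∙ (g x - x) := fun x hne h => by
    obtain ⟨b, hb⟩ := Submodule.mem_span_singleton.1 h
    obtain ⟨h1, h2⟩ := indep_of_noneig hne (a := -b - 1) (b := b)
      (by linear_combination (norm := module) hb)
    simp [h2] at h1
  have hsw : ∀ x w, w ≠ 0 → x ∉ (K ∙ w).comap (g - 1) → w ∉ K ∙ (g x - x) := fun x w hw h1 h => by
    obtain ⟨b, hb⟩ := Submodule.mem_span_singleton.1 h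
    have hb0 : b ≠ 0 := by rintro rfl; exact hw (by simpa using hb.symm)
    refine h1 (Submodule.mem_span_singleton.2 ⟨b⁻¹, ?_⟩)
    rw [← hb, smul_smul, inv_mul_cancel₀ hb0, one_smul]; rfl
  have hcv : ∀ x (φ : Dual K V) (hx : φ x = 1), (∀ μ : K, g x ≠ μ • x) → cvec g x φ hx ≠ 0 :=
    fun x φ hx hne h => hne (φ (g x)) (sub_eq_zero.1 (congrArg Subtype.val h))
  have hrv : ∀ x (φ : Dual K V) (hx : φ x = 1) (hd : φ (g x) = 1) (y : V), φ (g y - y) ≠ 0 →
      rvec g φ ≠ 0 := fun x φ hx hd y hy h => by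
    have := LinearMap.congr_fun h ⟨y - φ y • x, by simp [hx]⟩
    simp only [rvec_apply, map_sub, map_smul, hd, smul_eq_mul, mul_one, LinearMap.zero_apply] at this
    exact hy (by simpa using this)
  have hw5 : ∀ x, (∀ μ : K, g x ≠ μ • x) → ∃ w, w ∉ (K ∙ (g x - x)) ∧ (3 ≤ finrank K V →
      ∀ φ : Dual K V, φ x = 1 → φ w ≠ 0 →
      ¬ ∃ μ : K, ∀ v, g v - μ • v = φ (g v) • g x - (μ * φ v) • x) := fun x hne => by
    by_cases h3 : 3 ≤ finrank K V
    · obtain ⟨z, hz⟩ := exists_not_comb2 h3 x (g x)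
      obtain ⟨w, h1, h2⟩ := exists_kill_bad hg hne hz
      exact ⟨w, h1, fun _ => h2⟩
    · exact ⟨x, hxy x hne, fun h => (h3 h).elim⟩
  by_cases hM : Function.Injective (g - 1 : End K V)
  · have hs := LinearMap.injective_iff_surjective.1 hM
    obtain ⟨p, q, hp, hq, hpq⟩ := hns.exists_two
    obtain ⟨x, k₁, k₂, k₃, k₄⟩ := avoid4 hK hkr (hr2.comap_ne_top c) hp hq
    have hne := hpq x k₃ k₄
    obtain ⟨u, hu⟩ := hs x
    replace hu : g u - u = x := hu
    obtain ⟨w, hw, hw'⟩ := hw5 x hne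
    obtain ⟨w₄, hw₄, hw₄'⟩ : ∃ w₄, w₄ ∉ (K ∙ (g x - x)) ∧
        (u + x ∉ (K ∙ (g x - x)) → w₄ = u + x) := by
      by_cases h : u + x ∈ (K ∙ (g x - x))
      · exact ⟨x, hxy x hne, fun h' => (h' h).elim⟩
      · exact ⟨_, h, fun _ => rfl⟩
    obtain ⟨φ, hx, hy, m₁, m₂, m₃⟩ := exists_phi hK (hxy x hne) (hsw x c hc k₂) hw hw₄
    have hd : φ (g x) = 1 := by rw [map_sub, hx, sub_eq_zero] at hy; exact hy
    refine ⟨x, φ, hx, hd, k₁, m₁, hcv x φ hx hne, hrv x φ hx hd u (by simp [hu, hx]),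
      fun h3 => ⟨?_, ?_⟩⟩
    · by_contra h
      exact hw' h3 φ hx m₂ (bad_of_not_NS hx hd h)
    · by_contra h
      obtain ⟨v, hv⟩ := bad_of_not_R2 hx hd h
      by_cases h4 : u + x ∈ (K ∙ (g x - x))
      · rcases h3.eq_or_lt with h5 | h5
        · exact det_three h5.symm hdet hs hne hu h4
        · obtain ⟨z, hz⟩ := exists_not_comb3 h5 v (g x) x
          obtain ⟨y, rfl⟩ := hs z
          obtain ⟨a, ha⟩ := hv y
          exact hz a (φ (g y)) (-φ y) (by
            change g y - y = _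
            linear_combination (norm := module) ha)
      · rw [hw₄' h4, map_add, hx] at m₃
        obtain ⟨a, ha⟩ := hv u
        have h5 : φ (g u) = φ u + 1 := by rw [← hx, ← hu, map_sub]; ring
        rw [h5, hu] at ha
        have h6 : a ≠ 0 := by
          rintro rfl
          exact m₃ (indep_of_noneig hne (a := -(φ u + 1)) (b := φ u + 1)
            (by linear_combination (norm := module) -ha)).2
        obtain ⟨z, hz⟩ := exists_not_comb2 h3 x (g x)
        obtain ⟨y, rfl⟩ := hs z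
        obtain ⟨a', ha'⟩ := hv y
        have h7 : v = a⁻¹ • (a • v) := by rw [smul_smul, inv_mul_cancel₀ h6, one_smul]
        rw [h7, show a • v = (φ u + 1) • x - (φ u + 1) • g x by
          linear_combination (norm := module) -ha] at ha'
        exact hz (a' * a⁻¹ * (φ u + 1) - φ y) (φ (g y) - a' * a⁻¹ * (φ u + 1)) (by
            change g y - y = _
            linear_combination (norm := module) ha')
  · obtain ⟨k, hk, hk0⟩ : ∃ k, g k = k ∧ k ≠ 0 := by
      rw [injective_iff_map_eq_zero] at hM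
      push Not at hM
      obtain ⟨k, h1, h2⟩ := hM
      exact ⟨k, by simpa [sub_eq_zero] using h1, h2⟩
    have hrM : LinearMap.range (g - 1 : End K V) ≠ ⊤ := fun h =>
      hM (LinearMap.injective_iff_surjective.2 (LinearMap.range_eq_top.1 h))
    obtain ⟨x, k₁, k₂, k₃, k₄⟩ := avoid4 hK hkr (hr2.comap_ne_top c) (hr2.comap_ne_top k) hrM
    have hne : ∀ μ : K, g x ≠ μ • x := fun μ h => by
      by_cases h1 : μ = 1
      · exact k₃ (by simp [h, h1])
      · refine k₄ ⟨(μ - 1)⁻¹ • x, ?_⟩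
        have : g x - x = (μ - 1) • x := by rw [h, sub_smul, one_smul]
        simp only [map_smul, LinearMap.sub_apply, End.one_apply, this, smul_smul]
        rw [inv_mul_cancel₀ (sub_ne_zero.2 h1), one_smul]
    obtain ⟨y₀, hy₀⟩ := hr2 (g x - x)
    obtain ⟨w, hw, hw'⟩ := hw5 x hne
    obtain ⟨w₄, hw₄, hw₄', hw₄''⟩ : ∃ w₄, w₄ ∉ (K ∙ (g x - x)) ∧
        ((∃ a b : K, k = a • x + b • g x) → w₄ = w) ∧
        ((¬ ∃ a b : K, k = a • x + b • g x) → w₄ = k) := by
      by_cases h : ∃ a b : K, k = a • x + b • g x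
      · exact ⟨w, hw, fun _ => rfl, fun h' => (h' h).elim⟩
      · exact ⟨k, hsw x k hk0 k₃, fun h' => (h h').elim, fun _ => rfl⟩
    obtain ⟨φ, hx, hy, m₁, m₂, m₃⟩ := exists_phi hK (hxy x hne) (hsw x c hc k₂) hy₀ hw₄
    have hd : φ (g x) = 1 := by rw [map_sub, hx, sub_eq_zero] at hy; exact hy
    have hφk : φ k ≠ 0 := by
      by_cases h : ∃ a b : K, k = a • x + b • g x
      · obtain ⟨a, b, hab⟩ := h
        intro h1
        rw [hab, map_add, map_smul, map_smul, hx, hd, smul_eq_mul, smul_eq_mul, mul_one,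
          mul_one] at h1
        refine hsw x k hk0 k₃ (Submodule.mem_span_singleton.2 ⟨b, ?_⟩)
        rw [hab, eq_neg_of_add_eq_zero_left h1]
        module
      · rwa [hw₄'' h] at m₃
    have hR : R2 (schur g x φ (by simp [hd])) := by
      by_contra h
      obtain ⟨v, hv⟩ := bad_of_not_R2 hx hd h
      obtain ⟨a, ha⟩ := hv k
      rw [hk] at ha
      have h6 : a ≠ 0 := by
        rintro rfl
        exact hφk (indep_of_noneig hne (a := -φ k) (b := φ k)
          (by linear_combination (norm := module) -ha)).2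
      obtain ⟨a', ha'⟩ := hv y₀
      have h7 : v = a⁻¹ • (a • v) := by rw [smul_smul, inv_mul_cancel₀ h6, one_smul]
      rw [h7, show a • v = φ k • x - φ k • g x by linear_combination (norm := module) -ha] at ha'
      rw [map_sub] at m₂
      refine k₄ ⟨(φ (g y₀) - φ y₀)⁻¹ • (y₀ - (φ (g y₀) - a' * a⁻¹ * φ k) • x), ?_⟩
      simp only [map_smul, map_sub, LinearMap.sub_apply, End.one_apply]
      rw [ha']
      match_scalars <;> field_simp <;> ring
    refine ⟨x, φ, hx, hd, k₁, m₁, hcv x φ hx hne, hrv x φ hx hd y₀ m₂, fun h3 => ⟨?_, hR⟩⟩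
    by_contra h
    by_cases h4 : ∃ a b : K, k = a • x + b • g x
    · rw [hw₄' h4] at m₃
      exact hw' h3 φ hx m₃ (bad_of_not_NS hx hd h)
    · obtain ⟨μ, hμ⟩ := bad_of_not_NS hx hd h
      by_cases h5 : μ = 1
      · subst h5
        obtain ⟨y, hy⟩ := hR 0
        refine hy ?_
        rw [Submodule.span_zero_singleton, Submodule.mem_bot]
        ext
        have h6 := hμ y
        have h7 : φ y = 0 := y.2
        simp only [Submodule.coe_sub, schur_apply, hd, inv_one, one_mul, Submodule.coe_zero]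
        rw [h7] at h6
        linear_combination (norm := module) h6
      · have h6 := hμ k
        rw [hk] at h6
        have h7 : (1 - μ) ≠ 0 := sub_ne_zero.2 (Ne.symm h5)
        refine h4 ⟨-(1 - μ)⁻¹ * (μ * φ k), (1 - μ)⁻¹ * φ k, ?_⟩
        have h8 : k = (1 - μ)⁻¹ • ((1 - μ) • k) := by
          rw [smul_smul, inv_mul_cancel₀ h7, one_smul]
        nth_rewrite 1 [h8]
        rw [sub_smul, one_smul, h6]
        module

theorem det_schur_one {g : End K V} {x : V} {φ : Dual K V} (hx : φ x = 1) (hd : φ (g x) = 1)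
    (hd' : φ (g x) ≠ 0) : LinearMap.det (schur g x φ hd') = LinearMap.det g := by
  rw [det_schur g x φ hx hd']
  generalize LinearMap.det (schur g x φ hd') = t
  rw [hd, one_mul]

omit [FiniteDimensional K V] in
theorem exists_dual_one {x : V} (hx : x ≠ 0) : ∃ φ : Dual K V, φ x = 1 := by
  obtain ⟨φ, h⟩ : ∃ φ : Dual K V, φ x ≠ 0 := by
    by_contra! h
    exact hx ((Module.forall_dual_apply_eq_zero_iff K x).1 h)
  exact ⟨(φ x)⁻¹ • φ, by simp [h]⟩

theorem dec_zero (h : finrank K V = 0) (g : End K V) (c : V) (r : Dual K V) : Dec g c r 1 1 := by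
  have : Subsingleton V := Module.finrank_zero_iff.1 h
  have h1 : ∀ A : End K V, A.charpoly = 1 := fun A => by
    rw [← A.charpoly_monic.natDegree_eq_zero, A.charpoly_natDegree, h]
  exact ⟨1, g, isUnit_one, one_mul _, h1 _, h1 _, fun ψ _ _ => Subsingleton.elim _ _,
    fun v _ _ => Subsingleton.elim _ _⟩

theorem dec_one (h : finrank K V = 1) {g : End K V} {c : V} {r : Dual K V} {α β : K}
    (hα : α ≠ 0) (hβ0 : β ≠ 0) (hβ : α * LinearMap.det g = β) (hc : α = 1 → c ≠ 0)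
    (hr : β = 1 → r ≠ 0) : Dec g c r (X - C α) (X - C β) := by
  have : Nontrivial V := Module.nontrivial_of_finrank_pos (R := K) (by omega)
  obtain ⟨x, hx0⟩ := exists_ne (0 : V)
  obtain ⟨φ, hx⟩ := exists_dual_one (K := K) hx0
  have h0 : finrank K (LinearMap.ker φ) = 0 := by
    have := finrank_ker_add_one x φ hx; omega
  have : Subsingleton (LinearMap.ker φ) := Module.finrank_zero_iff.1 h0
  have hv : ∀ v, v = φ v • x := fun v =>
    sub_eq_zero.1 (congrArg Subtype.val (Subsingleton.elim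
      (⟨v - φ v • x, by simp [hx]⟩ : LinearMap.ker φ) 0))
  have hd : φ (g x) ≠ 0 := by
    intro h1
    have h2 : g x = 0 := by rw [hv (g x), h1, zero_smul]
    have h3 : IsUnit g := (LinearMap.isUnit_iff_isUnit_det g).2 (isUnit_iff_ne_zero.2 (by
      rintro h4; rw [h4, mul_zero] at hβ; exact hβ0 hβ.symm))
    exact hx0 (((End.isUnit_iff g).1 h3).1 (by simp [h2]))
  have hdet := det_schur g x φ hx hd
  rw [Subsingleton.elim (schur g x φ hd) 1, map_one, mul_one] at hdet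
  have := Dec.step hx hd hα (hdet ▸ hβ) (c₁ := cvec g x φ hx) (r₁ := rvec g φ) (c := c) (r := r)
    (dec_zero h0 _ _ _) (by
      by_cases h1 : α = 1
      · exact Or.inl ⟨h1, fun h2 => hc h1 (by rw [hv c, h2, zero_smul]), rfl⟩
      · exact Or.inr ⟨h1, Subsingleton.elim _ _⟩) (by
      by_cases h1 : β = 1
      · refine Or.inl ⟨h1, fun h2 => hr h1 ?_, rfl⟩
        ext v
        rw [hv v, map_smul, h2]; simp
      · exact Or.inr ⟨h1, Subsingleton.elim _ _⟩)
  simpa using this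

theorem dec_two_unip (hK : Big K) (h : finrank K V = 2) {g : End K V} (hdet : LinearMap.det g = 1)
    (hns : NS g) (hr2 : R2 g) {c : V} (hc : c ≠ 0) {r : Dual K V} (hr : r ≠ 0) :
    Dec g c r ((X - C 1) * (X - C 1)) ((X - C 1) * (X - C 1)) := by
  obtain ⟨x, φ, hx, hd, h1, h2, h3, h4, -⟩ := exists_step hK hdet hns hr2 hc hr
  have h5 := ((det_schur_one hx hd (by simp [hd])).trans hdet).symm
  have h6 := finrank_ker_add_one x φ hx
  exact Dec.step hx (by simp [hd]) one_ne_zero (by simp [hd])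
    (dec_one (by omega) one_ne_zero one_ne_zero (by rw [← h5, one_mul]) (fun _ => h3) fun _ => h4)
    (Or.inl ⟨rfl, h2, rfl⟩) (Or.inl ⟨rfl, h1, rfl⟩)

theorem dec_two_ss (hK : Big K) (h : finrank K V = 2) {g : End K V} (hdet : LinearMap.det g = 1)
    (hns : NS g) (hr2 : R2 g) {c : V} (hc : c ≠ 0) {r : Dual K V} (hr : r ≠ 0) {a b : K}
    (ha0 : a ≠ 0) (ha1 : a ≠ 1) (hb0 : b ≠ 0) (hb1 : b ≠ 1) :
    Dec g c r ((X - C a) * (X - C b)) ((X - C a) * (X - C b)) := by
  obtain ⟨x, φ, hx, hd, -⟩ := exists_step hK hdet hns hr2 hc hr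
  have h5 := ((det_schur_one hx hd (by simp [hd])).trans hdet).symm
  have h6 := finrank_ker_add_one x φ hx
  exact Dec.step hx (by simp [hd]) ha0 (by simp [hd])
    (dec_one (by omega) hb0 hb0 (by rw [← h5, mul_one]) (fun h => (hb1 h).elim)
      fun h => (hb1 h).elim)
    (Or.inr ⟨ha1, rfl⟩) (Or.inr ⟨ha1, rfl⟩)

theorem lev_ind (hK : Big K) (hA hB : K[X])
    (base : ∀ (W : Type u) [AddCommGroup W] [Module K W] [FiniteDimensional K W] (g : End K W)
      (c : W) (r : Dual K W), finrank K W = 2 → LinearMap.det g = 1 → NS g → R2 g → c ≠ 0 →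
      r ≠ 0 → Dec g c r hA hB) (n : ℕ) :
    ∀ (W : Type u) [AddCommGroup W] [Module K W] [FiniteDimensional K W] (g : End K W)
      (c : W) (r : Dual K W), finrank K W = n + 2 → LinearMap.det g = 1 → NS g → R2 g → c ≠ 0 →
      r ≠ 0 → Dec g c r ((X - C 1) ^ n * hA) ((X - C 1) ^ n * hB) := by
  induction n with
  | zero => simpa using base
  | succ n ih =>
    intro W _ _ _ g c r hn hdet hns hr2 hc hr
    obtain ⟨x, φ, hx, hd, h1, h2, h3, h4, h5⟩ := exists_step hK hdet hns hr2 hc hr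
    obtain ⟨h5, h6⟩ := h5 (by omega)
    have h7 := ((det_schur_one hx hd (by simp [hd])).trans hdet).symm
    have h8 := finrank_ker_add_one x φ hx
    rw [pow_succ', mul_assoc, mul_assoc]
    exact Dec.step hx (by simp [hd]) one_ne_zero (by simp [hd])
      (ih _ _ _ _ (by omega) h7.symm h5 h6 h3 h4) (Or.inl ⟨rfl, h2, rfl⟩) (Or.inl ⟨rfl, h1, rfl⟩)

end H64.Sour
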