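import Mathlib
import Cfsg.Agent.Lib.Sour.Lev

/-! Commutators with prescribed determinants; the case of fields with at least four elements. -/

set_option autoImplicit false
open Module Polynomial

namespace H64.Sour
universe u
variable {K : Type*} [Field K]
variable {V W : Type*} [AddCommGroup V] [Module K V] [AddCommGroup W] [Module K W]

/-- `g = A⁻¹ b A b⁻¹` with `det A = δ`, `det b = ε` -/
def Com (δ ε : K) (g : End K V) : Prop :=
  ∃ A b : End K V, IsUnit A ∧ IsUnit b ∧ LinearMap.det A = δ ∧ LinearMap.det b = ε ∧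
    A * g * b = b * A

theorem Com.of_similar {δ ε : K} {g : End K V} {g' : End K W} (h : Com δ ε g)
    (hs : H65.Similar g g') : Com δ ε g' := by
  obtain ⟨A, b, h1, h2, h3, h4, h5⟩ := h
  obtain ⟨e, rfl⟩ := hs.eq_conj
  refine ⟨e.conj A, e.conj b, (H65.similar_conj A e).isUnit_iff.1 h1,
    (H65.similar_conj b e).isUnit_iff.1 h2, by rw [← h3, (H65.similar_conj A e).det_eq],
    by rw [← h4, (H65.similar_conj b e).det_eq], ?_⟩
  ext v
  have := LinearMap.congr_fun h5 (e.symm v)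
  simp only [End.mul_apply] at this
  simp [LinearEquiv.conj_apply, this]

theorem Com.right {δ ε : K} {g : End K V} (h : Com δ ε g) : Com δ (ε * δ) g := by
  obtain ⟨A, b, h1, h2, h3, h4, h5⟩ := h
  exact ⟨A, b * A, h1, h2.mul h1, h3, by rw [map_mul, h3, h4], by rw [← mul_assoc, h5]⟩

theorem Com.left {δ ε : K} {g : End K V} (h : Com δ ε g) : Com (ε * δ) ε g := by
  obtain ⟨A, b, h1, h2, h3, h4, h5⟩ := h
  exact ⟨b * A, b, h2.mul h1, h2, by rw [map_mul, h3, h4], h4, by
    rw [mul_assoc b, mul_assoc b, h5]⟩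

theorem Com.smul [FiniteDimensional K V] {δ ε : K} {g : End K V} (h : Com δ ε g) {t : K}
    (ht : t ≠ 0) : Com (t ^ finrank K V * δ) ε g := by
  obtain ⟨A, b, h1, h2, h3, h4, h5⟩ := h
  refine ⟨t • A, b, ?_, h2, by rw [LinearMap.det_smul, h3], h4, by
    rw [smul_mul_assoc, smul_mul_assoc, h5, mul_smul_comm]⟩
  rw [LinearMap.isUnit_iff_isUnit_det, LinearMap.det_smul]
  exact (isUnit_iff_ne_zero.2 (pow_ne_zero _ ht)).mul ((LinearMap.isUnit_iff_isUnit_det _).1 h1)

theorem com_one : Com (1 : K) 1 (1 : End K V) :=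
  ⟨1, 1, isUnit_one, isUnit_one, map_one _, map_one _, by simp⟩

theorem Com.prod [FiniteDimensional K V] [FiniteDimensional K W] {δ ε δ' ε' : K} {g : End K V}
    {g' : End K W} (h : Com δ ε g) (h' : Com δ' ε' g') :
    Com (δ * δ') (ε * ε') (blk g 0 0 g') := by
  obtain ⟨A, b, h1, h2, h3, h4, h5⟩ := h
  obtain ⟨A', b', h1', h2', h3', h4', h5'⟩ := h'
  rw [LinearMap.isUnit_iff_isUnit_det] at h1 h2 h1' h2'
  refine ⟨blk A 0 0 A', blk b 0 0 b', ?_, ?_, by rw [det_blk_upper, h3, h3'],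
    by rw [det_blk_upper, h4, h4'], LinearMap.ext fun v => ?_⟩
  · rw [LinearMap.isUnit_iff_isUnit_det, det_blk_upper]; exact h1.mul h1'
  · rw [LinearMap.isUnit_iff_isUnit_det, det_blk_upper]; exact h2.mul h2'
  · have k1 := LinearMap.congr_fun h5 v.1
    have k2 := LinearMap.congr_fun h5' v.2
    simp only [End.mul_apply] at k1 k2
    simp [k1, k2]

theorem com_of_similar {A B g : End K V} (hu : IsUnit A) (hg : A * g = B)
    (hs : H65.Similar A B) : ∃ ε, Com (LinearMap.det A) ε g := by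
  obtain ⟨e, he⟩ := hs
  refine ⟨_, A, e.toLinearMap, hu, ((End.isUnit_iff e.toLinearMap).2 e.bijective), rfl, rfl, ?_⟩
  ext v
  simp [hg, he]

theorem Dec.com [FiniteDimensional K V] {g : End K V} {c : V} {r : Dual K V} {h : K[X]}
    (hd : Dec g c r h h) (hs : SQ h) : ∃ ε, Com ((-1) ^ finrank K V * h.coeff 0) ε g := by
  obtain ⟨A, B, hu, hg, h1, h2, h3, h4⟩ := hd
  have := com_of_similar hu hg (similar_of_sq (h1.trans h2.symm) (h1 ▸ hs) h3.finrank_le
    h4.finrank_le)
  rwa [LinearMap.det_eq_sign_charpoly_coeff, h1] at this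

theorem exists_commute_det [Finite K] [FiniteDimensional K V] (A : End K V) {π h : K[X]}
    (hπ : Irreducible π) (hm : π.Monic) (hA : A.charpoly = π * h) (hh : ¬ π ∣ h) (δ : K) :
    ∃ Z : End K V, Commute A Z ∧ LinearMap.det Z = δ := by
  classical
  obtain ⟨t, p, e, hp, hpm, he, hs⟩ := H65.exists_model A
  have hc := hs.charpoly_eq_prod fun i => (hpm i).pow _
  obtain ⟨j, -, hj⟩ := (hπ.prime.dvd_finsetProd_iff (S := Finset.univ)
    (fun i => p i ^ e i)).1 (by rw [← hc, hA]; exact dvd_mul_right _ _)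
  have h1 : p j = π := (eq_of_monic_of_associated hm (hpm j)
    (hπ.associated_of_dvd (hp j) (hπ.prime.dvd_of_dvd_pow hj))).symm
  have h2 : e j = 1 := by
    by_contra h3
    have h4 : 2 ≤ e j := by have := he j; omega
    have h5 : π * π ∣ π * h := by
      rw [← hA, hc, ← pow_two, ← h1]
      exact (pow_dvd_pow _ h4).trans (Finset.dvd_prod_of_mem (fun i => p i ^ e i)
        (Finset.mem_univ j))
    exact hh ((mul_dvd_mul_iff_left hπ.ne_zero).1 h5)
  have h3 : Irreducible (p j ^ e j) := by rw [h2, pow_one, h1]; exact hπ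
  have := Fact.mk h3
  have hfd := fun i => H65.finiteDimensional_adjoinRoot (pow_ne_zero (e i) (hp i).ne_zero)
  have : Finite (AdjoinRoot (p j ^ e j)) := Module.finite_of_finite K
  obtain ⟨u, hu⟩ := FiniteField.norm_surjective K (AdjoinRoot (p j ^ e j)) δ
  let z : ∀ i, AdjoinRoot (p i ^ e i) := Function.update 1 j u
  have h4 : Commute (H65.model fun i => p i ^ e i)
      (H65.piEnd fun i => Algebra.lmul K (AdjoinRoot (p i ^ e i)) (z i)) := by
    refine LinearMap.ext fun v => funext fun i => ?_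
    simp [H65.model_apply, mul_left_comm]
  obtain ⟨Z, h5, h6⟩ := hs.exists_commute h4
  refine ⟨Z, h5, ?_⟩
  rw [h6.det_eq, H65.det_piEnd, Finset.prod_eq_single j]
  · simp only [z, Function.update_self]; exact hu
  · intro i _ hi
    simp only [z, Function.update_of_ne hi, Pi.one_apply, map_one]
  · simp

theorem Com.any [Finite K] [FiniteDimensional K V] {g A B : End K V} (hu : IsUnit A)
    (hg : A * g = B) (hs : H65.Similar A B) {π h : K[X]} (hπ : Irreducible π) (hm : π.Monic)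
    (hA : A.charpoly = π * h) (hh : ¬ π ∣ h) : Com (LinearMap.det A) 1 g := by
  obtain ⟨e, he⟩ := hs
  have h0 : LinearMap.det e.toLinearMap ≠ 0 := e.isUnit_det'.ne_zero
  obtain ⟨Z, h1, h2⟩ := exists_commute_det A hπ hm hA hh (LinearMap.det e.toLinearMap)⁻¹
  refine ⟨A, e.toLinearMap * Z, hu, ((End.isUnit_iff e.toLinearMap).2 e.bijective).mul ?_, rfl, ?_, ?_⟩
  · rw [LinearMap.isUnit_iff_isUnit_det, h2]; exact isUnit_iff_ne_zero.2 (inv_ne_zero h0)
  · rw [map_mul, h2, mul_inv_cancel₀ h0]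
  · rw [hg, mul_assoc, ← h1.eq, ← mul_assoc, ← mul_assoc]
    congr 1
    ext v
    simp [he]

theorem Dec.com_one [Finite K] [FiniteDimensional K V] {g : End K V} {c : V} {r : Dual K V}
    {π h : K[X]} (hd : Dec g c r (π * h) (π * h)) (hs : SQ (π * h)) (hπ : Irreducible π)
    (hm : π.Monic) (hh : ¬ π ∣ h) : Com ((-1) ^ finrank K V * (π * h).coeff 0) 1 g := by
  obtain ⟨A, B, hu, hg, h1, h2, h3, h4⟩ := hd
  have := Com.any hu hg (similar_of_sq (h1.trans h2.symm) (h1 ▸ hs) h3.finrank_le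
    h4.finrank_le) hπ hm h1 hh
  rwa [LinearMap.det_eq_sign_charpoly_coeff, h1] at this

theorem Com.sl {n : Type*} [Fintype n] [DecidableEq n] {g : Matrix.SpecialLinearGroup n K}
    (h : Com 1 1 (Matrix.toLin' (g : Matrix n n K))) :
    ∃ a b : Matrix.SpecialLinearGroup n K, g = a * b * a⁻¹ * b⁻¹ := by
  obtain ⟨A, b, -, -, h3, h4, h5⟩ := h
  let A₀ : Matrix.SpecialLinearGroup n K := ⟨LinearMap.toMatrix' A, by
    rw [LinearMap.det_toMatrix', h3]⟩
  let b₀ : Matrix.SpecialLinearGroup n K := ⟨LinearMap.toMatrix' b, by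
    rw [LinearMap.det_toMatrix', h4]⟩
  have h6 : A₀ * g * b₀ = b₀ * A₀ := by
    apply Subtype.ext
    have := congrArg LinearMap.toMatrix' h5
    simpa [LinearMap.toMatrix'_mul] using this
  refine ⟨A₀⁻¹, b₀, ?_⟩
  rw [inv_inv, mul_assoc A₀⁻¹, ← h6]
  group

theorem transvection_of_not_R2 [FiniteDimensional K V] {g : End K V} (h : ¬ R2 g)
    (hdet : LinearMap.det g = 1) (h1 : g ≠ 1) :
    ∃ (ψ : Dual K V) (v : V), ψ ≠ 0 ∧ v ≠ 0 ∧ ψ v = 0 ∧ g = LinearMap.transvection ψ v := by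
  simp only [R2, not_forall, not_exists, not_not] at h
  obtain ⟨v, h⟩ := h
  have hv : v ≠ 0 := by
    rintro rfl
    exact h1 (LinearMap.ext fun y => by simpa [sub_eq_zero] using h y)
  obtain ⟨φ, hφ⟩ := exists_dual_one (K := K) hv
  have h2 : g = LinearMap.transvection (φ ∘ₗ (g - 1)) v := by
    ext y
    obtain ⟨a, ha⟩ := Submodule.mem_span_singleton.1 (h y)
    have h3 : φ (g y - y) = a := by rw [← ha, map_smul, hφ, smul_eq_mul, mul_one]
    rw [LinearMap.transvection.apply, LinearMap.comp_apply, LinearMap.sub_apply, End.one_apply, h3,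
      ha]
    abel
  refine ⟨φ ∘ₗ (g - 1), v, fun h3 => h1 ?_, hv, ?_, h2⟩
  · rw [h2, h3]; ext y; simp [LinearMap.transvection.apply]
  · rw [h2, LinearMap.transvection.det] at hdet
    simpa using hdet

theorem exists_dual_pair {ψ : Dual K V} {v : V} (hψ : ψ ≠ 0) (hv : v ≠ 0) (h : ψ v = 0) :
    ∃ (φ : Dual K V) (y : V), φ v = 1 ∧ ψ y = 1 ∧ φ y = 0 := by
  obtain ⟨φ, hφ⟩ := exists_dual_one (K := K) hv
  obtain ⟨y, hy⟩ : ∃ y, ψ y ≠ 0 := by
    by_contra! h
    exact hψ (LinearMap.ext h)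
  exact ⟨φ, (ψ y)⁻¹ • (y - φ y • v), hφ, by simp [h, hy], by simp [hφ]⟩

theorem com_transvection [FiniteDimensional K V] {ψ : Dual K V} {v : V} (hψ : ψ ≠ 0) (hv : v ≠ 0)
    (h : ψ v = 0) {a : K} (ha : a ≠ 0) (ha2 : a * a ≠ 1) :
    Com 1 1 (LinearMap.transvection ψ v) := by
  obtain ⟨φ, y, h1, h2, h3⟩ := exists_dual_pair hψ hv h
  have h4 : a * a - 1 ≠ 0 := sub_ne_zero.2 ha2
  have d1 : LinearMap.det (LinearMap.transvection ((a⁻¹ - 1) • φ) v *
      LinearMap.transvection ((a - 1) • ψ) y : End K V) = 1 := by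
    rw [map_mul, LinearMap.transvection.det, LinearMap.transvection.det]
    simp [h1, h2, ha]
  have d2 : LinearMap.det (LinearMap.transvection ((a * a - 1)⁻¹ • ψ) v) = 1 := by
    rw [LinearMap.transvection.det]; simp [h]
  refine ⟨_, _, (LinearMap.isUnit_iff_isUnit_det _).2 (by rw [d1]; exact isUnit_one),
    (LinearMap.isUnit_iff_isUnit_det _).2 (by rw [d2]; exact isUnit_one), d1, d2, ?_⟩
  ext w
  simp only [End.mul_apply, LinearMap.transvection.apply, map_add, map_smul, LinearMap.smul_apply,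
    smul_eq_mul, h, h1, h2, h3]
  have h5 := mul_inv_cancel₀ h4
  have h6 := mul_inv_cancel₀ ha
  generalize (a * a - 1)⁻¹ = s at *
  generalize a⁻¹ = t at *
  match_scalars
  · ring
  · linear_combination (-t * ψ w) * h5 + (s * a * ψ w) * h6
  · ring

theorem com_scalar_aux [Finite K] {ζ : K} {m : ℕ} (hm : (m : K) ≠ 0) (hζ : ζ ^ m = 1) :
    Com 1 1 (ζ • (1 : End K (AdjoinRoot (X ^ m - C ((-1) ^ (m + 1)) : K[X])))) := by
  have hm0 : m ≠ 0 := by rintro rfl; simp at hm
  set f : K[X] := X ^ m - C ((-1) ^ (m + 1)) with hf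
  have hfm : f.Monic := monic_X_pow_sub_C _ hm0
  have := hfm.finite_adjoinRoot
  have hsq : Squarefree f := (separable_X_pow_sub_C _ hm (pow_ne_zero _ (by simp))).squarefree
  have hdeg : f.natDegree = m := natDegree_X_pow_sub_C
  have hroot : AdjoinRoot.root f ^ m = algebraMap K _ ((-1) ^ (m + 1)) := by
    have : aeval (AdjoinRoot.root f) (X ^ m - C ((-1) ^ (m + 1)) : K[X]) = 0 := by
      rw [AdjoinRoot.aeval_eq]; exact AdjoinRoot.mk_self
    rwa [map_sub, map_pow, aeval_X, aeval_C, sub_eq_zero] at this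
  let σ : ∀ t : K, t ^ m = 1 → (AdjoinRoot f →ₐ[K] AdjoinRoot f) := fun t ht =>
    AdjoinRoot.liftAlgHom f (Algebra.ofId K _) (t • AdjoinRoot.root f) (by
      change aeval (t • AdjoinRoot.root f) (X ^ m - C ((-1) ^ (m + 1)) : K[X]) = 0
      rw [map_sub, map_pow, aeval_X, aeval_C, _root_.smul_pow, ht, one_smul, hroot, sub_self])
  have hσ : ∀ t ht, σ t ht (AdjoinRoot.root f) = t • AdjoinRoot.root f := fun t ht =>
    AdjoinRoot.liftAlgHom_root _ _ _ _
  have hζ0 : ζ ≠ 0 := by rintro rfl; simp [hm0] at hζ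
  have hζ' : ζ⁻¹ ^ m = 1 := by rw [inv_pow, hζ, inv_one]
  let e : AdjoinRoot f ≃ₐ[K] AdjoinRoot f := AlgEquiv.ofAlgHom (σ ζ hζ) (σ ζ⁻¹ hζ')
    (AdjoinRoot.algHom_ext (by simp [hσ, smul_smul, hζ0]))
    (AdjoinRoot.algHom_ext (by simp [hσ, smul_smul, hζ0]))
  have hs : H65.Similar (H65.cyc f) (H65.cyc f * (ζ • 1)) := ⟨e.toLinearEquiv, fun v => by
    simp [H65.cyc_apply, e, hσ]⟩
  have hch := H65.charpoly_cyc hfm
  have hdet : LinearMap.det (H65.cyc f) = 1 := by
    rw [LinearMap.det_eq_sign_charpoly_coeff, hch, H65.finrank_adjoinRoot, hdeg, hf]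
    simp only [coeff_sub, coeff_X_pow, coeff_C_zero, if_neg hm0.symm, zero_sub]
    rw [pow_succ, mul_neg_one, neg_neg, ← mul_pow]; simp
  obtain ⟨π, hπm, hπ, h, hh⟩ := exists_monic_irreducible_factor f (by
    intro hu
    have := natDegree_eq_zero_of_isUnit hu
    omega)
  have := Com.any (g := ζ • 1) ((LinearMap.isUnit_iff_isUnit_det _).2 (by simp [hdet])) rfl hs hπ
    hπm (hch.trans hh) (fun h1 => hπ.not_isUnit (hsq _ (hh ▸ mul_dvd_mul_left π h1)))
  rwa [hdet] at this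

theorem similar_smul_one [FiniteDimensional K V] [FiniteDimensional K W] (ζ : K)
    (h : finrank K V = finrank K W) : H65.Similar (ζ • (1 : End K V)) (ζ • (1 : End K W)) :=
  ⟨LinearEquiv.ofFinrankEq V W h, fun v => by simp⟩

theorem com_scalar [Finite K] [FiniteDimensional K V] {ζ : K} (hζ : ζ ^ finrank K V = 1) :
    Com 1 1 (ζ • (1 : End K V)) := by
  by_cases hζ0 : ζ = 0
  · have h0 : finrank K V = 0 := by
      by_contra h; simp [hζ0, h] at hζ
    have : Subsingleton V := Module.finrank_zero_iff.1 h0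
    rw [Subsingleton.elim (ζ • (1 : End K V)) 1]; exact com_one
  have := Fintype.ofFinite K
  set m := orderOf ζ with hm
  have hm1 : (m : K) ≠ 0 := by
    intro h
    have h1 : m ∣ Fintype.card K - 1 :=
      orderOf_dvd_of_pow_eq_one (FiniteField.pow_card_sub_one_eq_one ζ hζ0)
    obtain ⟨k, hk⟩ := h1
    have h2 : ((Fintype.card K - 1 : ℕ) : K) = 0 := by rw [hk, Nat.cast_mul, h, zero_mul]
    rw [Nat.cast_sub Fintype.card_pos, FiniteField.cast_card_eq_zero] at h2
    simp at h2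
  have hm0 : m ≠ 0 := by rintro h; simp [h] at hm1
  obtain ⟨k, hk⟩ : m ∣ finrank K V := orderOf_dvd_of_pow_eq_one hζ
  have hb := com_scalar_aux hm1 (pow_orderOf_eq_one ζ)
  have hfm : (X ^ m - C ((-1) ^ (m + 1)) : K[X]).Monic := monic_X_pow_sub_C _ hm0
  have := hfm.finite_adjoinRoot
  have key : ∀ k, Com 1 1 (ζ • (1 : End K (Fin (m * k) → K))) := by
    intro k
    induction k with
    | zero =>
      have : ζ • (1 : End K (Fin (m * 0) → K)) = 1 :=
        LinearMap.ext fun v => funext fun i => i.elim0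
      rw [this]; exact com_one
    | succ k ih =>
      have h1 := ih.prod hb
      rw [one_mul] at h1
      have h2 : blk (ζ • (1 : End K (Fin (m * k) → K))) 0 0
          (ζ • (1 : End K (AdjoinRoot (X ^ m - C ((-1) ^ (m + 1)) : K[X])))) = ζ • 1 := by
        refine LinearMap.ext fun v => ?_
        simp [Prod.ext_iff]
      rw [h2] at h1
      refine h1.of_similar (similar_smul_one ζ ?_)
      rw [Module.finrank_prod, H65.finrank_adjoinRoot, natDegree_X_pow_sub_C]
      simp [mul_add]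
  exact (key k).of_similar (similar_smul_one ζ (by simp [hk]))

theorem big_of_card [Fintype K] (h : 4 ≤ Fintype.card K) : Big K := by
  classical
  intro a b c
  by_contra! h1
  have h2 : (Finset.univ : Finset K) ⊆ {a, b, c} := fun t _ => by
    by_cases ha : t = a
    · simp [ha]
    by_cases hb : t = b
    · simp [hb]
    simp [h1 t ha hb]
  have := (Finset.card_le_card h2).trans Finset.card_le_three
  rw [Finset.card_univ] at this
  omega

theorem Big.exists_sq (hK : Big K) : ∃ a : K, a ≠ 0 ∧ a ≠ 1 ∧ a * a ≠ 1 := by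
  obtain ⟨a, h0, h1, h2⟩ := hK 0 1 (-1)
  exact ⟨a, h0, h1, fun h => by
    rcases mul_self_eq_one_iff.1 h with h | h
    exacts [h1 h, h2 h]⟩

theorem sq_pair {a b : K} (hab : a ≠ b) : SQ ((X - C a) * (X - C b)) :=
  SQ.of_squarefree (squarefree_mul_iff.2 ⟨(isCoprime_X_sub_C_of_isUnit_sub
    (isUnit_iff_ne_zero.2 (sub_ne_zero.2 hab))).isRelPrime, (irreducible_X_sub_C a).squarefree,
      (irreducible_X_sub_C b).squarefree⟩)

theorem dec_ss {V : Type u} [AddCommGroup V] [Module K V] [FiniteDimensional K V] (hK : Big K)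
    {n : ℕ} (hn : finrank K V = n + 2) {g : End K V} (hdet : LinearMap.det g = 1) (hns : NS g)
    (hr2 : R2 g) {a b : K} (ha0 : a ≠ 0) (ha1 : a ≠ 1) (hb0 : b ≠ 0) (hb1 : b ≠ 1) :
    ∃ c r, Dec g c r ((X - C 1) ^ n * ((X - C a) * (X - C b)))
      ((X - C 1) ^ n * ((X - C a) * (X - C b))) := by
  have : Nontrivial V := Module.nontrivial_of_finrank_pos (R := K) (by omega)
  obtain ⟨x, hx0⟩ := exists_ne (0 : V)
  obtain ⟨φ, hx⟩ := exists_dual_one (K := K) hx0
  exact ⟨x, φ, lev_ind hK _ _ (fun W _ _ _ g c r h1 h2 h3 h4 h5 h6 =>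
    dec_two_ss hK h1 h2 h3 h4 h5 h6 ha0 ha1 hb0 hb1) n V g x φ hn hdet hns hr2 hx0
    (by rintro rfl; simp at hx)⟩

theorem dec_unip {V : Type u} [AddCommGroup V] [Module K V] [FiniteDimensional K V] (hK : Big K)
    {n : ℕ} (hn : finrank K V = n + 2) {g : End K V} (hdet : LinearMap.det g = 1) (hns : NS g)
    (hr2 : R2 g) : ∃ c r, Dec g c r ((X - C 1) ^ (n + 2)) ((X - C 1) ^ (n + 2)) := by
  have : Nontrivial V := Module.nontrivial_of_finrank_pos (R := K) (by omega)
  obtain ⟨x, hx0⟩ := exists_ne (0 : V)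
  obtain ⟨φ, hx⟩ := exists_dual_one (K := K) hx0
  refine ⟨x, φ, ?_⟩
  rw [pow_add, pow_two]
  exact lev_ind hK _ _ (fun W _ _ _ g c r h1 h2 h3 h4 h5 h6 =>
    dec_two_unip hK h1 h2 h3 h4 h5 h6) n V g x φ hn hdet hns hr2 hx0
    (by rintro rfl; simp at hx)

theorem com_of_big [Finite K] [FiniteDimensional K V] (hK : Big K) (hn : 2 ≤ finrank K V)
    {g : End K V} (hdet : LinearMap.det g = 1) : Com 1 1 g := by
  obtain ⟨a, ha0, ha1, ha2⟩ := hK.exists_sq
  by_cases hns : NS g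
  swap
  · simp only [NS, not_forall, not_exists, not_not] at hns
    obtain ⟨μ, hμ⟩ := hns
    have : g = μ • 1 := LinearMap.ext hμ
    rw [this] at hdet ⊢
    exact com_scalar (by simpa using hdet)
  by_cases hr2 : R2 g
  swap
  · by_cases h1 : g = 1
    · rw [h1]; exact com_one
    obtain ⟨ψ, v, h2, h3, h4, rfl⟩ := transvection_of_not_R2 hr2 hdet h1
    exact com_transvection h2 h3 h4 ha0 ha2
  obtain ⟨n, hn⟩ := Nat.exists_eq_add_of_le' hn
  have hab : a ≠ a⁻¹ := fun h => ha2 (by nth_rewrite 2 [h]; exact mul_inv_cancel₀ ha0)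
  obtain ⟨c, r, h⟩ := dec_ss hK hn hdet hns hr2 ha0 ha1 (inv_ne_zero ha0) (by simpa using ha1)
  have hs := (sq_pair hab).pow_mul n
  rw [mul_left_comm] at h hs
  have := h.com_one hs (irreducible_X_sub_C a) (monic_X_sub_C a) (by
    rw [dvd_iff_isRoot]
    simp [sub_eq_zero, ha1, hab])
  convert this
  rw [hn, coeff_zero_eq_eval_zero]
  simp only [eval_mul, eval_sub, eval_X, eval_C, zero_sub, eval_pow]
  field_simp
  rw [pow_add, mul_right_comm, ← mul_pow]; simp

end H64.Sour
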