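import Mathlib
import Cfsg.Agent.Lib.Sour.Com

/-! Cyclic endomorphisms: Hessenberg induction, coupling of two blocks, block types. -/

set_option autoImplicit false
open Module Polynomial

namespace H64.Sour
universe u
variable {K : Type*} [Field K]
variable {V W : Type*} [AddCommGroup V] [Module K V] [AddCommGroup W] [Module K W]

/-- `x` is a cyclic vector -/
def Cyc (g : End K V) (x : V) : Prop :=
  ∀ p : Submodule K V, x ∈ p → (∀ v ∈ p, g v ∈ p) → p = ⊤

theorem cyc_cyc (f : K[X]) : Cyc (H65.cyc f) 1 := by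
  intro p h1 h2
  refine Submodule.eq_top_iff'.2 fun v => ?_
  induction v using AdjoinRoot.induction_on with
  | ih q =>
    induction q using Polynomial.induction_on with
    | C a => simpa [Algebra.smul_def] using p.smul_mem a h1
    | add a b ha hb => rw [map_add]; exact p.add_mem ha hb
    | monomial n a h =>
      have := h2 _ h
      rw [H65.cyc_apply, ← AdjoinRoot.mk_X, ← map_mul] at this
      convert this using 2
      ring

theorem Cyc.schur {g : End K V} {x : V} (h : Cyc g x) {φ : Dual K V} (hx : φ x = 1)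
    (hd : φ (g x) ≠ 0) : Cyc (schur g x φ hd) (cvec g x φ hx) := by
  intro p h1 h2
  have h3 : g x ∈ p.map (LinearMap.ker φ).subtype ⊔ K ∙ x := by
    have : g x = (cvec g x φ hx : V) + φ (g x) • x := by simp [cvec]
    rw [this]
    exact Submodule.add_mem_sup ⟨_, h1, rfl⟩ (Submodule.smul_mem _ _
      (Submodule.mem_span_singleton_self x))
  have h4 := h (p.map (LinearMap.ker φ).subtype ⊔ K ∙ x)
    (Submodule.mem_sup_right (Submodule.mem_span_singleton_self x)) (by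
      intro v hv
      obtain ⟨_, ⟨w, hw, rfl⟩, z, hz, rfl⟩ := Submodule.mem_sup.1 hv
      obtain ⟨a, rfl⟩ := Submodule.mem_span_singleton.1 hz
      rw [map_add, map_smul]
      refine Submodule.add_mem _ ?_ (Submodule.smul_mem _ _ h3)
      have : g ((LinearMap.ker φ).subtype w) = (H64.Sour.schur g x φ hd w : V) +
          ((φ (g x))⁻¹ * φ (g w)) • g x := by simp [schur_apply]
      rw [this]
      exact Submodule.add_mem _ (Submodule.mem_sup_left ⟨_, h2 w hw, rfl⟩)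
        (Submodule.smul_mem _ _ h3))
  refine Submodule.eq_top_iff'.2 fun v => ?_
  have h5 : (v : V) ∈ p.map (LinearMap.ker φ).subtype ⊔ K ∙ x := h4 ▸ Submodule.mem_top
  obtain ⟨_, ⟨w, hw, rfl⟩, z, hz, h6⟩ := Submodule.mem_sup.1 h5
  obtain ⟨a, rfl⟩ := Submodule.mem_span_singleton.1 hz
  have h7 : a = 0 := by
    have h8 := congrArg φ h6
    have h9 : φ w = 0 := w.2
    have h10 : φ v = 0 := v.2
    simpa [hx, h9, h10] using h8
  have : w = v := Subtype.ext (by simpa [h7] using h6)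
  exact this ▸ hw

theorem exists_dual_notMem {p : Submodule K V} {v : V} (hv : v ∉ p) :
    ∃ φ : Dual K V, φ v = 1 ∧ ∀ w ∈ p, φ w = 0 := by
  obtain ⟨φ, h1, h2⟩ := LinearMap.exists_extend_of_notMem (0 : p →ₗ[K] K) hv 1
  exact ⟨φ, h2, fun w hw => by simpa using LinearMap.congr_fun h1 ⟨w, hw⟩⟩

variable [FiniteDimensional K V] [FiniteDimensional K W]

theorem Cyc.ne_zero {g : End K V} {x : V} (h : Cyc g x) (h1 : 1 ≤ finrank K V) : x ≠ 0 := by
  rintro rfl
  have := h ⊥ (Submodule.zero_mem _) (fun v hv => by simp_all)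
  rw [← finrank_top, ← this, finrank_bot] at h1
  omega

theorem Cyc.noneig {g : End K V} {x : V} (h : Cyc g x) (h2 : 2 ≤ finrank K V) (μ : K) :
    g x ≠ μ • x := by
  intro h3
  have h0 := h.ne_zero (by omega)
  have := h (K ∙ x) (Submodule.mem_span_singleton_self x) (fun v hv => by
    obtain ⟨a, rfl⟩ := Submodule.mem_span_singleton.1 hv
    rw [map_smul, h3]
    exact Submodule.smul_mem _ _ (Submodule.smul_mem _ _ (Submodule.mem_span_singleton_self x)))
  rw [← finrank_top, ← this, finrank_span_singleton h0] at h2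
  omega

theorem Cyc.exists_phi2 {g : End K V} {x : V} (h : Cyc g x) (h2 : 2 ≤ finrank K V) (d : K) :
    ∃ φ : Dual K V, φ x = 1 ∧ φ (g x) = d := by
  obtain ⟨φ₁, h1⟩ := exists_dual_one (K := K) (h.ne_zero (by omega))
  obtain ⟨φ₂, h3, h4⟩ := exists_dual_notMem (p := K ∙ x) (v := g x) (fun h5 => by
    obtain ⟨a, ha⟩ := Submodule.mem_span_singleton.1 h5
    exact h.noneig h2 a ha.symm)
  exact ⟨φ₁ + (d - φ₁ (g x)) • φ₂, by simp [h1, h4 x (Submodule.mem_span_singleton_self x)],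
    by simp [h3]⟩

theorem Cyc.exists_phi3 {g : End K V} {x : V} (h : Cyc g x) (h3 : 3 ≤ finrank K V) (d u : K) :
    ∃ (φ : Dual K V) (hx : φ x = 1), φ (g x) = d ∧ rvec g φ (cvec g x φ hx) = u := by
  obtain ⟨φ₁, h1, h2⟩ := h.exists_phi2 (by omega) d
  obtain ⟨φ₂, h4, h5⟩ := exists_dual_notMem (p := Submodule.span K {x, g x}) (v := g (g x))
    (fun h5 => by
      obtain ⟨z, hz⟩ := exists_not_comb2 h3 x (g x)
      have := h (Submodule.span K {x, g x}) (Submodule.subset_span (by simp)) (fun v hv => by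
        obtain ⟨a, b, rfl⟩ := Submodule.mem_span_pair.1 hv
        rw [map_add, map_smul, map_smul]
        exact Submodule.add_mem _ (Submodule.smul_mem _ _ (Submodule.subset_span (by simp)))
          (Submodule.smul_mem _ _ h5))
      have h6 : z ∈ Submodule.span K {x, g x} := this ▸ Submodule.mem_top
      obtain ⟨a, b, h7⟩ := Submodule.mem_span_pair.1 h6
      exact hz a b h7.symm)
  have h6 := h5 x (Submodule.subset_span (by simp))
  have h7 := h5 (g x) (Submodule.subset_span (by simp))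
  refine ⟨φ₁ + (u + d * d - φ₁ (g (g x))) • φ₂, by simp [h1, h6], by simp [h2, h7], ?_⟩
  simp [rvec_apply, cvec, h2, h4, h7]

/-- all cyclic endomorphisms of dimension `k`, determinant `δ` (and trace in `T`) decompose -/
def QD (K : Type*) [Field K] (k : ℕ) (δ : K) (T : K → Prop) (R : Prop) (hA hB : K[X]) : Prop :=
  ∀ (W : Type u) [AddCommGroup W] [Module K W] [FiniteDimensional K W] (g : End K W)
    (x : W) (r : Dual K W), finrank K W = k → Cyc g x → LinearMap.det g = δ →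
    T (LinearMap.trace K W g) → (R → r x ≠ 0) → Dec g x r hA hB

theorem QD.up {k : ℕ} {δ : K} {T T' : K → Prop} {R : Prop} {hA hB : K[X]} (hk : 2 ≤ k)
    (h : QD.{u} K k δ T R hA hB) (hT : ∀ t, T' t → ∃ u, (R → u ≠ 0) ∧ T (t - 1 - u)) :
    QD.{u} K (k + 1) δ T' True ((X - C 1) * hA) ((X - C 1) * hB) := by
  intro W _ _ _ g x r h1 h2 h3 h4 h5
  obtain ⟨u, h6, h7⟩ := hT _ h4
  obtain ⟨φ, hx, hd, hu⟩ := h2.exists_phi3 (by omega) 1 u
  have h8 := finrank_ker_add_one x φ hx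
  have h9 := trace_schur g x φ hx (by simp [hd])
  refine Dec.step hx (by simp [hd]) one_ne_zero (by simp [hd])
    (h _ _ _ _ (by omega) (h2.schur hx _) (by rw [det_schur_one hx hd, h3]) ?_ (by rwa [hu]))
    (Or.inl ⟨rfl, by simp [hx], rfl⟩) (Or.inl ⟨rfl, h5 trivial, rfl⟩)
  convert h7
  rw [h9, hu]
  generalize LinearMap.trace K _ (schur g x φ _) = t
  rw [hd]; ring

theorem QD.ups {k : ℕ} {δ : K} {hA hB : K[X]} (hk : 2 ≤ k)
    (h : QD.{u} K k δ (fun _ => True) True hA hB) (n : ℕ) :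
    QD.{u} K (k + n) δ (fun _ => True) True ((X - C 1) ^ n * hA) ((X - C 1) ^ n * hB) := by
  induction n with
  | zero => simpa using h
  | succ n ih =>
    rw [pow_succ', mul_assoc, mul_assoc]
    exact ih.up (k := k + n) (by omega) fun _ _ => ⟨1, fun _ => one_ne_zero, trivial⟩

theorem QD.dec {k : ℕ} {δ : K} {T : K → Prop} {R : Prop} {hA hB : K[X]}
    (h : QD.{u} K k δ T R hA hB) (hk : 1 ≤ k) {W : Type u} [AddCommGroup W] [Module K W]
    [FiniteDimensional K W] {g : End K W} {x : W} (h1 : finrank K W = k) (h2 : Cyc g x)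
    (h3 : LinearMap.det g = δ) (h4 : T (LinearMap.trace K W g)) : ∃ c r, Dec g c r hA hB := by
  obtain ⟨φ, hφ⟩ := exists_dual_one (K := K) (h2.ne_zero (by omega))
  exact ⟨x, φ, h W g x φ h1 h2 h3 h4 fun _ => by simp [hφ]⟩

theorem trace_eq_det_of_one (h : finrank K V = 1) (g : End K V) :
    LinearMap.trace K V g = LinearMap.det g := by
  let b := Module.finBasisOfFinrankEq K V h
  rw [LinearMap.trace_eq_matrix_trace K b, ← LinearMap.det_toMatrix b]
  simp [Matrix.trace]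

theorem qd_one {α β δ : K} (hα : α ≠ 0) (hβ0 : β ≠ 0) (hβ : α * δ = β) :
    QD.{u} K 1 δ (fun _ => True) True (X - C α) (X - C β) := by
  intro W _ _ _ g x r h1 h2 h3 _ h5
  exact dec_one h1 hα hβ0 (h3 ▸ hβ) (fun _ => h2.ne_zero h1.ge)
    fun _ h => h5 trivial (by simp [h])

theorem qd_two {α β δ : K} (hα : α ≠ 0) (hβ0 : β ≠ 0) (hβ : α * δ = β) :
    QD.{u} K 2 δ (fun t => β = 1 → t ≠ 1 + δ) True ((X - C 1) * (X - C α))
      ((X - C 1) * (X - C β)) := by
  intro W _ _ _ g x r h1 h2 h3 h4 h5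
  obtain ⟨φ, hx, hd⟩ := h2.exists_phi2 h1.ge 1
  have h8 := finrank_ker_add_one x φ hx
  have h9 := trace_schur g x φ hx (by simp [hd])
  have h10 := (det_schur_one hx hd (by simp [hd])).trans h3
  refine Dec.step hx (by simp [hd]) one_ne_zero (by simp [hd])
    (dec_one (by omega) hα hβ0 (h10 ▸ hβ)
      (fun _ => (h2.schur hx (by simp [hd])).ne_zero (by omega)) fun h11 h12 => h4 h11 ?_)
    (Or.inl ⟨rfl, by simp [hx], rfl⟩) (Or.inl ⟨rfl, h5 trivial, rfl⟩)
  rw [h9, trace_eq_det_of_one (by omega), h10, h12, hd]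
  simp

theorem Cyc.companion {g : End K V} {x : V} (h : Cyc g x) (h2 : finrank K V = 2) :
    ∃ e : V ≃ₗ[K] (Fin 2 → K), e x = ![1, 0] ∧ ∀ v, e (g v) =
      Matrix.toLin' !![0, -LinearMap.det g; 1, LinearMap.trace K V g] (e v) := by
  have hli : LinearIndependent K ![x, g x] := by
    rw [LinearIndependent.pair_iff]
    exact fun s t hst => indep_of_noneig (h.noneig h2.ge) hst
  let B := basisOfLinearIndependentOfCardEqFinrank hli (by simp [h2])
  have e0 : B 0 = x := by simp [B]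
  have e1 : B 1 = g x := by simp [B]
  have g0 : g (B 0) = B 1 := by rw [e0, e1]
  have h3 : LinearMap.toMatrix B B g = !![0, -LinearMap.det g; 1, LinearMap.trace K V g] := by
    rw [LinearMap.trace_eq_matrix_trace K B, ← LinearMap.det_toMatrix B, Matrix.det_fin_two,
      Matrix.trace_fin_two]
    ext i j
    fin_cases i <;> fin_cases j <;> simp [LinearMap.toMatrix_apply, g0]
  refine ⟨B.equivFun, ?_, fun v => ?_⟩
  · rw [← e0]; ext i; fin_cases i <;> simp
  · rw [← h3, Matrix.toLin'_apply, Basis.equivFun_apply, Basis.equivFun_apply,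
      LinearMap.toMatrix_mulVec_repr]

theorem Cyc.similar_companion {g : End K V} {x : V} (h : Cyc g x) (h2 : finrank K V = 2) :
    H65.Similar g (Matrix.toLin' !![0, -LinearMap.det g; 1, LinearMap.trace K V g]) := by
  obtain ⟨e, -, he⟩ := h.companion h2
  exact ⟨e, he⟩

theorem exists_fixed {A : End K V} (h : A.charpoly.eval 1 = 0) : ∃ v, v ≠ 0 ∧ A v = v := by
  obtain ⟨v, hv⟩ := ((End.hasEigenvalue_iff_isRoot_charpoly A 1).2 h).exists_hasEigenvector
  exact ⟨v, hv.2, by simpa using hv.apply_eq_smul⟩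

theorem fixV_of_eval {A : End K V} (h : A.charpoly.eval 1 ≠ 0) (r : Dual K V) : FixV A r := by
  intro v h1 _
  by_contra h2
  exact h ((End.hasEigenvalue_iff_isRoot_charpoly A 1).1 (End.hasEigenvalue_of_hasEigenvector
    ⟨End.mem_eigenspace_iff.2 (by simpa using h1), h2⟩))

theorem exists_cofixed {A : End K V} (h : A.charpoly.eval 1 = 0) :
    ∃ ψ : Dual K V, ψ ≠ 0 ∧ ∀ v, ψ (A v) = ψ v := by
  obtain ⟨v, h1, h2⟩ := exists_fixed h
  obtain ⟨w, hw⟩ := exists_notMem (p := LinearMap.range (A - 1)) fun h3 =>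
    h1 (LinearMap.injective_iff_surjective.2 (LinearMap.range_eq_top.1 h3) (by simp [h2]))
  obtain ⟨ψ, h3, h4⟩ := exists_dual_notMem hw
  exact ⟨ψ, by rintro rfl; simp at h3, fun v => by simpa [sub_eq_zero] using h4 _ ⟨v, rfl⟩⟩

theorem fixC_of_eval {A : End K V} (h : A.charpoly.eval 1 ≠ 0) (c : V) : FixC A c := by
  intro ψ h1 _
  have h2 : Function.Injective (A - 1 : End K V) := by
    rw [injective_iff_map_eq_zero]
    exact fun v hv => fixV_of_eval h 0 v (by simpa [sub_eq_zero] using hv) rfl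
  ext v
  obtain ⟨w, rfl⟩ := LinearMap.injective_iff_surjective.1 h2 v
  simp [h1]

theorem qd_mat {δ τ : K} {hA hB : K[X]} (M : Matrix (Fin 2) (Fin 2) K) (h1 : M.det ≠ 0)
    (h2 : M.charpoly = hA) (h3 : (M * !![0, -δ; 1, τ]).charpoly = hB)
    (h4 : FixC (Matrix.toLin' M) ![1, 0]) (h5 : hB.eval 1 ≠ 0) :
    QD.{u} K 2 δ (fun t => t = τ) False hA hB := by
  intro W _ _ _ g x r k1 k2 k3 k4 _
  obtain ⟨e, k5, k6⟩ := k2.companion k1
  refine Dec.of_equiv e k6 ?_
  rw [k3, k4, k5]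
  have k7 : (Matrix.toLin' M * Matrix.toLin' !![0, -δ; 1, τ] : End K _).charpoly = hB := by
    rw [← h3, ← Matrix.charpoly_toLin', Matrix.toLin'_mul]; rfl
  refine ⟨Matrix.toLin' M, _, ?_, rfl, by rw [Matrix.charpoly_toLin', h2], k7, h4,
    fixV_of_eval (k7 ▸ h5) _⟩
  rw [LinearMap.isUnit_iff_isUnit_det, LinearMap.det_toLin']
  exact isUnit_iff_ne_zero.2 h1

theorem Dec.any_c {g : End K V} {c : V} {r : Dual K V} {hA hB : K[X]} (h : Dec g c r hA hB)
    (h1 : hA.eval 1 ≠ 0) (c' : V) : Dec g c' r hA hB := by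
  obtain ⟨A, B, k1, k2, k3, k4, -, k6⟩ := h
  exact ⟨A, B, k1, k2, k3, k4, fixC_of_eval (k3 ▸ h1) _, k6⟩

theorem QD.up_ne {δ δ' τ α β : K} {hA hB : K[X]} (h : QD.{u} K 2 δ (fun t => t = τ) False hA hB)
    (hA1 : hA.eval 1 ≠ 0) (hα : α ≠ 0) (hα1 : α ≠ 1) {d : K} (hd0 : d ≠ 0) (hβ : α * d = β)
    (hδ : δ' = d * δ) :
    QD.{u} K 3 δ' (fun _ => True) True ((X - C α) * hA) ((X - C β) * hB) := by
  intro W _ _ _ g x r h1 h2 h3 _ h5
  obtain ⟨φ, hx, hd, hu⟩ := h2.exists_phi3 h1.ge d (d * (LinearMap.trace K W g - d - τ))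
  have h8 := finrank_ker_add_one x φ hx
  have hd' : φ (g x) ≠ 0 := by rwa [hd]
  have h9 := trace_schur g x φ hx hd'
  have h10 := det_schur g x φ hx hd'
  have key : ∀ r₁, Dec (schur g x φ hd') 0 r₁ hA hB := fun r₁ => by
    refine (h _ _ _ r₁ (by omega) (h2.schur hx hd') ?_ ?_ False.elim).any_c hA1 _
    · generalize LinearMap.det (schur g x φ hd') = t at h10
      rw [h3, hδ, hd] at h10
      exact (mul_left_cancel₀ hd0 h10).symm
    · rw [hu] at h9
      change _ = τ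
      generalize LinearMap.trace K _ (schur g x φ hd') = t at h9 ⊢
      rw [hd, inv_mul_cancel_left₀ hd0] at h9
      linear_combination -h9
  by_cases hβ1 : β = 1
  · exact Dec.step hx hd' hα (hd ▸ hβ) (key _) (Or.inr ⟨hα1, rfl⟩)
      (Or.inl ⟨hβ1, h5 trivial, rfl⟩)
  · exact Dec.step hx hd' hα (hd ▸ hβ) (key _) (Or.inr ⟨hα1, rfl⟩) (Or.inr ⟨hβ1, rfl⟩)

theorem Dec.couple {g₁ : End K V} {g₂ : End K W} {c₁ : V} {c₂ : W} {r₁ : Dual K V}
    {r₂ : Dual K W} {hA₁ hB₁ hA₂ hB₂ : K[X]} (h₁ : Dec g₁ c₁ r₁ hA₁ hB₁)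
    (h₂ : Dec g₂ c₂ r₂ hA₂ hB₂) (k₁ : hB₁.eval 1 = 0) (k₂ : hA₂.eval 1 = 0) :
    ∃ c r, Dec (blk g₁ 0 0 g₂) c r (hA₁ * hA₂) (hB₁ * hB₂) := by
  obtain ⟨A₁, B₁, u₁, e₁, rfl, rfl, c₁', r₁'⟩ := h₁
  obtain ⟨A₂, B₂, u₂, e₂, rfl, rfl, c₂', r₂'⟩ := h₂
  obtain ⟨χ, hχ0, hχ⟩ := exists_cofixed k₁
  obtain ⟨v₂, hv0, hv⟩ := exists_fixed k₂
  obtain ⟨y, hy1, hy2⟩ : ∃ y, χ y ≠ 0 ∧ FixC A₁ y := by
    have h1 : LinearMap.ker χ ≠ ⊤ := fun h => hχ0 (LinearMap.ker_eq_top.1 h)
    by_cases h : ∃ ψ₀ : Dual K V, ψ₀ ≠ 0 ∧ ∀ v, ψ₀ (A₁ v) = ψ₀ v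
    · obtain ⟨ψ₀, h2, h3⟩ := h
      obtain ⟨y, h4, h5⟩ := avoid2 h1 (q := LinearMap.ker ψ₀) fun h => h2 (LinearMap.ker_eq_top.1 h)
      refine ⟨y, h4, fun ψ h6 h7 => ?_⟩
      have h8 : ψ₀ c₁ ≠ 0 := fun h => h2 (c₁' ψ₀ h3 h)
      have h9 := c₁' (ψ₀ c₁ • ψ - ψ c₁ • ψ₀) (fun v => by simp [h3, h6]) (by simp [mul_comm])
      have h10 := LinearMap.congr_fun h9 y
      have h11 : ψ c₁ = 0 := by
        rw [LinearMap.mem_ker] at h5
        simpa [h7, h5] using h10
      exact c₁' ψ h6 h11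
    · obtain ⟨y, hy⟩ := exists_notMem h1
      exact ⟨y, hy, fun ψ h2 _ => by
        by_contra h3
        exact h ⟨ψ, h3, h2⟩⟩
  obtain ⟨η, hη1, hη2⟩ : ∃ η : Dual K W, η v₂ ≠ 0 ∧ FixV B₂ (η ∘ₗ g₂) := by
    by_cases h : ∃ w₀, w₀ ≠ 0 ∧ B₂ w₀ = w₀
    · obtain ⟨w₀, h2, h3⟩ := h
      have h4 : g₂ w₀ ≠ 0 := fun h => h2 (by rw [← h3, ← e₂, End.mul_apply, h, map_zero])
      obtain ⟨η, h5, h6⟩ := avoid2 (ker_eval_ne_top (K := K) hv0) (ker_eval_ne_top (K := K) h4)
      simp only [LinearMap.mem_ker, Dual.eval_apply] at h5 h6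
      refine ⟨η, h5, fun w h7 h8 => ?_⟩
      have h9 := r₂' (r₂ w₀ • w - r₂ w • w₀) (by simp [h3, h7]) (by simp [mul_comm])
      have h10 := congrArg (η ∘ₗ g₂) h9
      have h11 : r₂ w = 0 := by
        rw [map_sub, map_smul, map_smul, h8] at h10
        simpa [h6] using h10
      exact r₂' w h7 h11
    · obtain ⟨η, hη⟩ := exists_dual_one (K := K) hv0
      exact ⟨η, by simp [hη], fun w h2 _ => by
        by_contra h3
        exact h ⟨w, h3, h2⟩⟩
  refine ⟨(0, c₂), r₁ ∘ₗ LinearMap.fst K V W, blk A₁ (η.smulRight y) 0 A₂,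
    blk B₁ (η.smulRight y ∘ₗ g₂) 0 B₂, ?_, ?_, charpoly_blk_upper _ _ _, charpoly_blk_upper _ _ _,
    fun ψ h1 h2 => ?_, fun w h1 h2 => ?_⟩
  · rw [LinearMap.isUnit_iff_isUnit_det] at u₁ u₂ ⊢
    rw [det_blk_upper]; exact u₁.mul u₂
  · refine LinearMap.ext fun v => ?_
    simp [← e₁, ← e₂]
  · have h3 : ∀ (a : V) (b : W), ψ (a, b) = ψ (a, 0) + ψ (0, b) := fun a b => by
      rw [← map_add]; simp
    have h4 : ψ ∘ₗ LinearMap.inl K V W = 0 := by
      refine hy2 _ (fun v => by simpa using h1 (v, 0)) ?_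
      have h5 := h1 (0, v₂)
      simp only [blk_apply, map_zero, LinearMap.smulRight_apply, zero_add, hv] at h5
      rw [h3, add_eq_right, show ((η v₂ • y, 0) : V × W) = η v₂ • (y, 0) by simp, map_smul] at h5
      simpa [hη1] using h5
    have h5 : ∀ a, ψ (a, 0) = 0 := fun a => by simpa using LinearMap.congr_fun h4 a
    have h6 : ψ ∘ₗ LinearMap.inr K V W = 0 := by
      refine c₂' _ (fun v => ?_) h2
      have h7 := h1 (0, v)
      simp only [blk_apply, map_zero, LinearMap.smulRight_apply, zero_add] at h7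
      rw [h3, h5, zero_add] at h7
      exact h7
    refine LinearMap.ext fun v => ?_
    have h7 : ψ (0, v.2) = 0 := LinearMap.congr_fun h6 v.2
    rw [show v = (v.1, v.2) from rfl, h3, h5, h7]; simp
  · obtain ⟨a, b⟩ := w
    simp only [blk_apply, LinearMap.comp_apply, LinearMap.smulRight_apply, LinearMap.zero_apply,
      zero_add, Prod.mk.injEq] at h1
    have h3 : b = 0 := by
      refine hη2 b h1.2 ?_
      have := congrArg χ h1.1
      rw [map_add, hχ, map_smul, add_eq_left] at this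
      simpa [hy1] using this
    subst h3
    have h4 : a = 0 := r₁' a (by simpa using h1.1) h2
    simp [h4]

theorem kerDim_blk (f : End K V) (g : End K W) (p : K[X]) :
    H65.kerDim (blk f 0 0 g) p = H65.kerDim f p + H65.kerDim g p := by
  have h1 : ∀ v, (aeval (blk f 0 0 g) p v).1 = aeval f p v.1 :=
    H65.intertwine_aeval (LinearMap.fst K V W) (fun v => by simp) p
  have h2 : ∀ v, (aeval (blk f 0 0 g) p v).2 = aeval g p v.2 :=
    H65.intertwine_aeval (LinearMap.snd K V W) (fun v => by simp) p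
  rw [H65.kerDim, H65.kerDim, H65.kerDim, ← Module.finrank_prod]
  apply LinearEquiv.finrank_eq
  exact
    { toFun := fun v => (⟨v.1.1, by rw [LinearMap.mem_ker, ← h1, LinearMap.mem_ker.1 v.2]; rfl⟩,
        ⟨v.1.2, by rw [LinearMap.mem_ker, ← h2, LinearMap.mem_ker.1 v.2]; rfl⟩)
      map_add' := fun _ _ => rfl
      map_smul' := fun _ _ => rfl
      invFun := fun w => ⟨(w.1.1, w.2.1), Prod.ext (by rw [h1]; exact w.1.2)
        (by rw [h2]; exact w.2.2)⟩
      left_inv := fun _ => rfl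
      right_inv := fun _ => rfl }

/-- `f` has cyclic blocks `s` -/
def Ty (s : Multiset K[X]) (f : End K V) : Prop :=
  ∀ p, H65.kerDim f p = (s.map fun P => H65.kerDim (H65.cyc P) p).sum

/-- an endomorphism with blocks `s` is a commutator of the given type -/
def CM (δ ε : K) (s : Multiset K[X]) : Prop :=
  ∃ (n : ℕ) (f : End K (Fin n → K)), Ty s f ∧ Com δ ε f

omit [FiniteDimensional K V] [FiniteDimensional K W] in
theorem Ty.of_similar {s : Multiset K[X]} {f : End K V} {g : End K W} (h : Ty s f)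
    (hs : H65.Similar f g) : Ty s g := fun p => by rw [← hs.kerDim_eq, h]

theorem ty_cyc (P : K[X]) : Ty {P} (H65.cyc P) := fun p => by simp

theorem Ty.add {s t : Multiset K[X]} {f : End K V} {g : End K W} (h : Ty s f) (h' : Ty t g) :
    Ty (s + t) (blk f 0 0 g) := fun p => by
  rw [kerDim_blk, h, h', Multiset.map_add, Multiset.sum_add]

theorem CM.of {δ ε : K} {s : Multiset K[X]} {f : End K V} (h : Ty s f) (hc : Com δ ε f) :
    CM δ ε s := by
  obtain ⟨A, hA⟩ := H65.exists_matrix_similar f (n := Fin (finrank K V)) (by simp)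
  exact ⟨_, _, h.of_similar hA, hc.of_similar hA⟩

theorem CM.use {δ ε : K} {s : Multiset K[X]} {f : End K V} (hc : CM δ ε s) (h : Ty s f) :
    Com δ ε f := by
  obtain ⟨n, g, h1, h2⟩ := hc
  exact h2.of_similar (H65.similar_iff_kerDim.2 fun p => by rw [h1, h])

theorem CM.add {δ ε δ' ε' : K} {s t : Multiset K[X]} (h : CM δ ε s) (h' : CM δ' ε' t) :
    CM (δ * δ') (ε * ε') (s + t) := by
  obtain ⟨n, f, h1, h2⟩ := h
  obtain ⟨n', f', h1', h2'⟩ := h'
  exact CM.of (h1.add h1') (h2.prod h2')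

theorem CM.right {δ ε : K} {s : Multiset K[X]} (h : CM δ ε s) : CM δ (ε * δ) s := by
  obtain ⟨n, f, h1, h2⟩ := h
  exact ⟨n, f, h1, h2.right⟩

theorem CM.left {δ ε : K} {s : Multiset K[X]} (h : CM δ ε s) : CM (ε * δ) ε s := by
  obtain ⟨n, f, h1, h2⟩ := h
  exact ⟨n, f, h1, h2.left⟩

theorem CM.ne_zero {δ ε : K} {s : Multiset K[X]} (h : CM δ ε s) : ε ≠ 0 := by
  obtain ⟨n, f, -, A, b, -, h2, -, rfl, -⟩ := h
  exact ((LinearMap.isUnit_iff_isUnit_det _).1 h2).ne_zero

theorem cm_zero : CM (1 : K) 1 0 :=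
  ⟨0, 1, fun p => by
    rw [H65.kerDim, Multiset.map_zero, Multiset.sum_zero]
    exact Module.finrank_zero_of_subsingleton, com_one⟩

/-- a primary block -/
def Prim (P : K[X]) : Prop := ∃ (p : K[X]) (e : ℕ), Irreducible p ∧ p.Monic ∧ 0 < e ∧ P = p ^ e

theorem Prim.monic {P : K[X]} (h : Prim P) : P.Monic := by
  obtain ⟨p, e, -, h2, -, rfl⟩ := h
  exact h2.pow _

theorem Prim.pos {P : K[X]} (h : Prim P) : 1 ≤ P.natDegree := by
  obtain ⟨p, e, h1, -, h3, rfl⟩ := h
  rw [natDegree_pow]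
  exact Nat.mul_pos h3 h1.natDegree_pos

theorem exists_ty (f : End K V) : ∃ s : Multiset K[X], Ty s f ∧ (∀ P ∈ s, Prim P) ∧
    (s.map fun P => LinearMap.det (H65.cyc P)).prod = LinearMap.det f ∧
    (s.map natDegree).sum = finrank K V := by
  obtain ⟨t, p, e, hp, hm, he, hs⟩ := H65.exists_model f
  have h0 := fun i => pow_ne_zero (e i) (hp i).ne_zero
  have := fun i => H65.finiteDimensional_adjoinRoot (h0 i)
  refine ⟨Finset.univ.val.map fun i => p i ^ e i, fun q => ?_, fun P hP => ?_, ?_, ?_⟩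
  · rw [hs.kerDim_eq, H65.kerDim_model _ h0, Multiset.map_map]; rfl
  · obtain ⟨i, -, rfl⟩ := Multiset.mem_map.1 hP
    exact ⟨_, _, hp i, hm i, he i, rfl⟩
  · rw [hs.det_eq, H65.model, H65.det_piEnd, Multiset.map_map]; rfl
  · rw [hs.finrank_eq_sum h0, Multiset.map_map]; rfl

theorem similar_blk {V' W' : Type*} [AddCommGroup V'] [Module K V'] [AddCommGroup W'] [Module K W']
    {f : End K V} {g : End K W} {f' : End K V'} {g' : End K W'} (h : H65.Similar f f')
    (h' : H65.Similar g g') : H65.Similar (blk f 0 0 g) (blk f' 0 0 g') := by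
  obtain ⟨e, he⟩ := h
  obtain ⟨e', he'⟩ := h'
  exact ⟨e.prodCongr e', fun v => by simp [he, he']⟩

theorem similar_fromBlocks {m n : ℕ} (M : Matrix (Fin m) (Fin m) K) (N : Matrix (Fin n) (Fin n) K) :
    H65.Similar (blk (Matrix.toLin' M) 0 0 (Matrix.toLin' N)) (Matrix.toLin'
      (Matrix.reindex finSumFinEquiv finSumFinEquiv (Matrix.fromBlocks M 0 0 N))) := by
  refine H65.Similar.trans ?_ (H65.similar_reindex _ _)
  have := H65.similar_toMatrix ((Pi.basisFun K (Fin m)).prod (Pi.basisFun K (Fin n)))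
    (blk (Matrix.toLin' M) 0 0 (Matrix.toLin' N))
  rw [toMatrix_blk] at this
  simpa using this

theorem com_of_matrix {n : Type*} [Fintype n] [DecidableEq n] {g : Matrix n n K}
    (A b : Matrix n n K) (h1 : A.det = 1) (h2 : b.det = 1) (h : A * g * b = b * A) :
    Com 1 1 (Matrix.toLin' g) := by
  refine ⟨Matrix.toLin' A, Matrix.toLin' b, ?_, ?_, by rw [LinearMap.det_toLin', h1],
    by rw [LinearMap.det_toLin', h2], ?_⟩
  · rw [LinearMap.isUnit_iff_isUnit_det, LinearMap.det_toLin', h1]; exact isUnit_one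
  · rw [LinearMap.isUnit_iff_isUnit_det, LinearMap.det_toLin', h2]; exact isUnit_one
  · have := congrArg Matrix.toLin' h
    rwa [Matrix.toLin'_mul, Matrix.toLin'_mul, Matrix.toLin'_mul] at this

theorem charpoly_of_two {g : End K V} {x : V} (h : Cyc g x) (h2 : finrank K V = 2) :
    g.charpoly = X ^ 2 - C (LinearMap.trace K V g) * X + C (LinearMap.det g) := by
  rw [(h.similar_companion h2).charpoly_eq, Matrix.charpoly_toLin', Matrix.charpoly_fin_two]
  simp [Matrix.det_fin_two]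

end H64.Sour
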